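import Cfsg.Agent.Base
import Cfsg.Agent.Solv.Fitting
import Cfsg.Agent.Solv.Coprime
import Cfsg.Agent.Solv.FpfComplement
import Cfsg.Agent.Transfer.Frobenius
import Cfsg.Prelude.Def_LieExceptional
import Cfsg.Prelude.Def_OddOrderLocal

/-!
# CN-groups: basic facts

A finite group is a CN-group when the centralizer of every non-identity element is nilpotent.
-/

namespace CL.CN

open Cfsg Subgroup CL.Transfer
open scoped Pointwise

variable {G : Type*} [Group G]

theorem of_injective (hG : IsCNGroup G) {H : Type*} [Group H] (f : H →* G)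
    (hf : Function.Injective f) : IsCNGroup H := by
  intro x hx
  have hx' : f x ≠ 1 := fun h => hx (hf (by rw [h, map_one]))
  have := hG (f x) hx'
  have : Group.IsNilpotent ((centralizer ({f x} : Set G)).comap f) :=
    isNilpotent_comap_of_injective f hf
  refine isNilpotent_of_le (L := (centralizer ({f x} : Set G)).comap f) fun y hy => ?_
  rw [mem_comap, mem_centralizer_singleton_iff, ← map_mul, ← map_mul,
    mem_centralizer_singleton_iff.mp hy]

theorem subgroup (hG : IsCNGroup G) (H : Subgroup G) : IsCNGroup H :=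
  of_injective hG H.subtype H.subtype_injective

theorem of_mulEquiv (hG : IsCNGroup G) {H : Type*} [Group H] (e : G ≃* H) : IsCNGroup H :=
  of_injective hG e.symm.toMonoidHom e.symm.injective

theorem isNilpotent_of_le_centralizer (hG : IsCNGroup G) {z : G} (hz : z ≠ 1) {A : Subgroup G}
    (hA : A ≤ centralizer {z}) : Group.IsNilpotent A :=
  have := hG z hz
  isNilpotent_of_le hA

/-- A nontrivial nilpotent subgroup has a nontrivial central element. -/
theorem exists_central (A : Subgroup G) [Group.IsNilpotent A] (hA : A ≠ ⊥) :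
    ∃ z ∈ A, z ≠ 1 ∧ A ≤ centralizer {z} := by
  have h1 : (⊤ : Subgroup A) ≠ ⊥ := by
    have := (Subgroup.nontrivial_iff_ne_bot A).mpr hA
    exact top_ne_bot
  have h := inf_center_ne_bot_of_isNilpotent (⊤ : Subgroup A) h1
  rw [top_inf_eq] at h
  obtain ⟨⟨z, hz⟩, hz1⟩ := (Subgroup.ne_bot_iff_exists_ne_one).mp h
  refine ⟨z, z.2, fun h => hz1 (Subtype.ext (Subtype.ext h)), fun a ha => ?_⟩
  rw [mem_centralizer_singleton_iff]
  exact congrArg Subtype.val (mem_center_iff.mp hz ⟨a, ha⟩)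

theorem exists_central_of_center_ne_bot {A : Subgroup G} (h : center A ≠ ⊥) :
    ∃ z ∈ A, z ≠ 1 ∧ A ≤ centralizer {z} := by
  obtain ⟨⟨z, hz⟩, hz1⟩ := (Subgroup.ne_bot_iff_exists_ne_one).mp h
  refine ⟨z, z.2, fun h => hz1 (Subtype.ext (Subtype.ext h)), fun a ha => ?_⟩
  rw [mem_centralizer_singleton_iff]
  exact congrArg Subtype.val (mem_center_iff.mp hz ⟨a, ha⟩)

theorem isNilpotent_of_center_ne_bot (hG : IsCNGroup G) {A : Subgroup G} (h : center A ≠ ⊥) :
    Group.IsNilpotent A := by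
  obtain ⟨z, -, hz1, hz⟩ := exists_central_of_center_ne_bot h
  exact isNilpotent_of_le_centralizer hG hz1 hz

variable [Finite G]

theorem commute_of_mem_of_coprime {N : Subgroup G} [Group.IsNilpotent N] {a b : G} (ha : a ∈ N)
    (hb : b ∈ N) (h : (orderOf a).Coprime (orderOf b)) : Commute a b := by
  have := commute_of_isNilpotent_of_coprime (G := N) (a := ⟨a, ha⟩) (b := ⟨b, hb⟩)
    (by simpa [Subgroup.orderOf_mk] using h)
  exact congrArg Subtype.val this

theorem commute_of_coprime (hG : IsCNGroup G) {x a b : G} (hx : x ≠ 1) (ha : Commute a x)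
    (hb : Commute b x) (h : (orderOf a).Coprime (orderOf b)) : Commute a b :=
  have := hG x hx
  commute_of_mem_of_coprime (N := centralizer {x}) (mem_centralizer_singleton_iff.mpr ha)
    (mem_centralizer_singleton_iff.mpr hb) h

/-- The basic lemma: an element `y` of order prime to `|A|` (`A` nilpotent) which commutes with
one non-identity element of `A` centralizes `A`. -/
theorem le_centralizer (hG : IsCNGroup G) {A : Subgroup G} [Group.IsNilpotent A] {x y : G}
    (hx : x ∈ A) (hx1 : x ≠ 1) (hxy : Commute x y) (hcop : (Nat.card A).Coprime (orderOf y)) :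
    A ≤ centralizer {y} := by
  have hA : A ≠ ⊥ := fun h => hx1 (by simpa [h] using hx)
  obtain ⟨z, hzA, hz1, hz⟩ := exists_central A hA
  have hc : ∀ a ∈ A, (orderOf a).Coprime (orderOf y) := fun a ha =>
    Nat.Coprime.coprime_dvd_left (A.orderOf_dvd_natCard ha) hcop
  have hzx : Commute z x := (mem_centralizer_singleton_iff.mp (hz hx)).symm
  have hzy : Commute z y := commute_of_coprime hG hx1 hzx hxy.symm (hc z hzA)
  intro a ha
  exact mem_centralizer_singleton_iff.mpr
    (commute_of_coprime hG hz1 (mem_centralizer_singleton_iff.mp (hz ha)) hzy.symm (hc a ha))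

theorem le_centralizer_of_isPGroup (hG : IsCNGroup G) {p : ℕ} [Fact p.Prime] {P : Subgroup G}
    (hP : IsPGroup p P) {x y : G} (hx : x ∈ P) (hx1 : x ≠ 1) (hxy : Commute x y)
    (hy : (orderOf y).Coprime p) : P ≤ centralizer {y} := by
  have := hP.isNilpotent
  obtain ⟨k, hk⟩ := hP.exists_card_eq
  exact le_centralizer hG hx hx1 hxy (hk ▸ (hy.symm.pow_left k))

omit [Finite G] in
theorem isPGroup_zpowers {p k : ℕ} {x : G} (hx : x ^ p ^ k = 1) : IsPGroup p (zpowers x) := by
  rintro ⟨y, hy⟩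
  obtain ⟨n, rfl⟩ := mem_zpowers_iff.mp hy
  refine ⟨k, Subtype.ext ?_⟩
  change (x ^ n) ^ p ^ k = 1
  rw [← zpow_natCast, ← zpow_mul, mul_comm, zpow_mul, zpow_natCast, hx, one_zpow]

omit [Finite G] in
theorem exists_pow_eq_one_of_mem {p : ℕ} {P : Subgroup G} (hP : IsPGroup p P) {x : G}
    (hx : x ∈ P) : ∃ k, x ^ p ^ k = 1 := by
  obtain ⟨k, hk⟩ := hP ⟨x, hx⟩
  exact ⟨k, congrArg Subtype.val hk⟩

omit [Finite G] in
theorem coprime_of_pow_eq_one {p k : ℕ} {x y : G} (hx : x ^ p ^ k = 1)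
    (hy : (orderOf y).Coprime p) : (orderOf x).Coprime (orderOf y) :=
  Nat.Coprime.coprime_dvd_left (orderOf_dvd_of_pow_eq_one hx) (hy.symm.pow_left k)

/-- Every non-identity element has a power of prime order. -/
theorem exists_prime_pow {x : G} (hx : x ≠ 1) :
    ∃ (q : ℕ) (y : G), q.Prime ∧ y ∈ zpowers x ∧ orderOf y = q := by
  have h1 : orderOf x ≠ 1 := by simpa using hx
  obtain ⟨q, hq, hd⟩ := Nat.exists_prime_and_dvd h1
  refine ⟨q, x ^ (orderOf x / q), hq, ⟨(orderOf x / q : ℕ), zpow_natCast _ _⟩, ?_⟩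
  exact orderOf_pow_orderOf_div (orderOf_pos x).ne' hd

omit [Finite G] in
theorem commute_of_mem_zpowers {x y a : G} (hy : y ∈ zpowers x) (h : Commute a x) :
    Commute a y := by
  obtain ⟨n, rfl⟩ := hy
  exact h.zpow_right n

theorem exists_orderOf_eq_of_dvd {H : Subgroup G} {q : ℕ} (hq : q.Prime) (h : q ∣ Nat.card H) :
    ∃ y ∈ H, orderOf y = q := by
  have := Fact.mk hq
  obtain ⟨y, hy⟩ := exists_prime_orderOf_dvd_card' (G := H) q h
  exact ⟨y, y.2, by rw [← hy, Subgroup.orderOf_coe]⟩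

omit [Finite G] in
theorem ne_one_of_orderOf_eq {q : ℕ} (hq : q.Prime) {y : G} (h : orderOf y = q) : y ≠ 1 := by
  rintro rfl
  rw [orderOf_one] at h
  exact hq.one_lt.ne h

/-- A subgroup containing all `p`-elements and all `p'`-elements of `H` contains `H`. -/
theorem le_of_p_of_p' (p : ℕ) [Fact p.Prime] {H K : Subgroup G}
    (h1 : ∀ x ∈ H, ∀ k : ℕ, x ^ p ^ k = 1 → x ∈ K)
    (h2 : ∀ x ∈ H, (orderOf x).Coprime p → x ∈ K) : H ≤ K := by
  intro x hx
  obtain ⟨a, b, ha, hb, ⟨k, hk⟩, hbc, rfl⟩ := exists_p_part_mul_p'_part (p := p) x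
  exact K.mul_mem (h1 a (zpowers_le.mpr hx ha) k hk) (h2 b (zpowers_le.mpr hx hb) hbc)

/-- A subgroup containing a Sylow `p`-subgroup and all `p'`-elements of `H` contains `H`. -/
theorem le_of_isSylowIn_of_p' {p : ℕ} [Fact p.Prime] {P H K : Subgroup G} (hP : IsSylowIn p P H)
    (h1 : P ≤ K) (h2 : ∀ x ∈ H, (orderOf x).Coprime p → x ∈ K) : H ≤ K := by
  intro x hx
  obtain ⟨y, hy, z, hz, rfl⟩ := hP.exists_mul_pResidual hx
  refine K.mul_mem (h1 hy) ?_
  rw [map_pResidual_subtype_eq_closure] at hz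
  exact (closure_le K).mpr (fun g hg => h2 g hg.1 hg.2) hz

omit [Finite G] in
/-- A `p`-element normalizing a Sylow `p`-subgroup lies in it. -/
theorem mem_sylow_of_mem_normalizer {p : ℕ} [Fact p.Prime] (P : Sylow p G) {x : G} {k : ℕ}
    (hx : x ^ p ^ k = 1) (hn : x ∈ normalizer ((P : Subgroup G) : Set G)) :
    x ∈ (P : Subgroup G) := by
  have h := (isPGroup_zpowers hx).inf_normalizer_sylow P
  have : x ∈ zpowers x ⊓ (P : Subgroup G) := by
    rw [← h]; exact ⟨mem_zpowers x, hn⟩
  exact this.2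

/-- In a nilpotent subgroup containing a Sylow `p`-subgroup `P`, all `p`-elements lie in `P`. -/
theorem mem_sylow_of_isNilpotent {p : ℕ} [Fact p.Prime] (P : Sylow p G) {H : Subgroup G}
    [Group.IsNilpotent H] (hP : (P : Subgroup G) ≤ H) {x : G} (hxH : x ∈ H) {k : ℕ}
    (hx : x ^ p ^ k = 1) : x ∈ (P : Subgroup G) := by
  have hn : ((P.subtype hP : Sylow p H) : Subgroup H).Normal :=
    isNilpotent_iff_sylow_normal.mp inferInstance p inferInstance _
  refine mem_sylow_of_mem_normalizer P hx ?_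
  rw [Sylow.coe_subtype] at hn
  exact (normal_subgroupOf_iff_le_normalizer hP).mp hn hxH

/-- If all Sylow `p`-subgroups lie in one nilpotent subgroup, they are normal. -/
theorem sylow_normal_of_forall_le {p : ℕ} [Fact p.Prime] {H : Subgroup G} [Group.IsNilpotent H]
    (h : ∀ P : Sylow p G, (P : Subgroup G) ≤ H) (P : Sylow p G) : (P : Subgroup G).Normal := by
  refine ⟨fun x hx g => ?_⟩
  obtain ⟨k, hk⟩ := exists_pow_eq_one_of_mem P.isPGroup' hx
  refine mem_sylow_of_isNilpotent P (h P) (h (g • P) ?_) (k := k) ?_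
  · rw [Sylow.coe_subgroup_smul]
    exact conj_mem_conj_smul.mpr hx
  · rw [conj_pow, hk, mul_one, mul_inv_cancel]

/-- If a non-identity `p'`-element commutes with a non-identity element of a normal `p`-subgroup
then the Sylow `p`-subgroups are normal. -/
theorem sylow_normal_of_commute (hG : IsCNGroup G) {p : ℕ} [Fact p.Prime] {y : G}
    (hx : ∀ P : Sylow p G, ∃ x' ∈ (P : Subgroup G), x' ≠ 1 ∧ Commute x' y) (hy1 : y ≠ 1)
    (hy : (orderOf y).Coprime p) (P : Sylow p G) : (P : Subgroup G).Normal := by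
  have := hG y hy1
  refine sylow_normal_of_forall_le (H := centralizer {y}) (fun Q => ?_) P
  obtain ⟨x', h1, h2, h3⟩ := hx Q
  exact le_centralizer_of_isPGroup hG Q.isPGroup' h1 h2 h3 hy

/-! ### Quotients -/

theorem of_surjective_of_isPGroup (hG : IsCNGroup G) {H : Type*} [Group H] (f : G →* H)
    (hf : Function.Surjective f) {p : ℕ} [hp : Fact p.Prime] (hk : IsPGroup p f.ker) :
    IsCNGroup H := by
  have : Finite H := Finite.of_surjective f hf
  intro u hu
  obtain ⟨r, v, hr, hvu, hv⟩ := exists_prime_pow hu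
  have hv1 : v ≠ 1 := ne_one_of_orderOf_eq hr hv
  suffices h : Group.IsNilpotent (centralizer ({v} : Set H)) from
    isNilpotent_of_le (L := centralizer ({v} : Set H)) fun a ha =>
      mem_centralizer_singleton_iff.mpr
        (commute_of_mem_zpowers hvu (mem_centralizer_singleton_iff.mp ha))
  obtain ⟨x, rfl⟩ := hf v
  obtain ⟨m, hm⟩ := hk.exists_card_eq
  by_cases hrp : r = p
  · subst hrp
    set C : Subgroup G := (centralizer ({f x} : Set H)).comap f with hC
    have hmemC : ∀ c, c ∈ C ↔ f c * f x = f x * f c := fun c => by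
      rw [hC, mem_comap, mem_centralizer_singleton_iff]
    set X : Subgroup G := (zpowers (f x)).comap f with hX
    have hXp : IsPGroup r X :=
      (isPGroup_zpowers (k := 1) (by rw [pow_one, ← hv, pow_orderOf_eq_one])).comap_of_ker_isPGroup
        f hk
    have hXC : X ≤ C := fun a ha =>
      (hmemC a).mpr (commute_of_mem_zpowers ha (Commute.refl (f x))).symm
    obtain ⟨P, hP, hXP⟩ := exists_isSylowIn_ge hXp hXC
    have hxP : x ∈ P := hXP (mem_zpowers (f x))
    have hP1 : P ≠ ⊥ := fun h => hv1 (by rw [h, mem_bot] at hxP; rw [hxP, map_one])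
    have := hP.isPGroup.isNilpotent
    obtain ⟨z, hzP, hz1, hz⟩ := exists_central P hP1
    have hCz : C ≤ centralizer {z} := by
      refine le_of_isSylowIn_of_p' hP hz fun y hy hyc => ?_
      obtain ⟨n, hn, hnx⟩ := exists_centralizer_of_coset (A := zpowers y) (N := f.ker) (k := x)
        le_normalizer_of_normal (by rw [Nat.card_zpowers, hm]; exact hyc.pow_right m)
        (Or.inl inferInstance) (fun a ha => by
          have h1 := (hmemC a).mp (zpowers_le.mpr hy ha)
          rw [MonoidHom.mem_ker]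
          simp only [map_mul, map_inv]
          rw [h1]; group)
      have hfn : f (n * x) = f x := by rw [map_mul, MonoidHom.mem_ker.mp hn, one_mul]
      have h1 : n * x ∈ P := hXP (by rw [hX, mem_comap, hfn]; exact mem_zpowers _)
      have h2 : n * x ≠ 1 := fun h => hv1 (by rw [← hfn, h, map_one])
      have h3 : Commute (n * x) y := (hnx y (mem_zpowers y)).symm
      have h4 := le_centralizer_of_isPGroup hG hP.isPGroup h1 h2 h3 hyc hzP
      exact mem_centralizer_singleton_iff.mpr (mem_centralizer_singleton_iff.mp h4).symm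
    have := isNilpotent_of_le_centralizer hG hz1 hCz
    have := isNilpotent_map (K := C) f
    rwa [hC, map_comap_eq_self_of_surjective hf] at this
  · have hc : (orderOf (f x)).Coprime p := by
      rw [hv]; exact (Nat.coprime_primes hr hp.out).mpr hrp
    obtain ⟨b, -, hb, hfb⟩ := exists_coprime_lift f x hc
    have hb1 : b ≠ 1 := fun h => hv1 (by rw [← hfb, h, map_one])
    have h := map_inf_centralizer_of_coprime f (A := zpowers b) (K := ⊤) le_normalizer_of_normal
      (by rw [top_inf_eq, Nat.card_zpowers, hm]; exact hb.pow_right m) (Or.inl inferInstance)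
    rw [top_inf_eq, map_top_of_surjective f hf, top_inf_eq, MonoidHom.map_zpowers,
      Frob.centralizer_zpowers_eq, Frob.centralizer_zpowers_eq, hfb] at h
    have := hG b hb1
    rw [← h]
    exact isNilpotent_map f

universe u

theorem quotient_aux (n : ℕ) : ∀ (G : Type u) [Group G] [Finite G], Nat.card G = n →
    IsCNGroup G → ∀ (H : Subgroup G) [H.Normal], Group.IsSolvable H → IsCNGroup (G ⧸ H) := by
  induction n using Nat.strong_induction_on with
  | _ n ih =>
  intro G _ _ hn hG H _ hH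
  by_cases h1 : H = ⊥
  · subst h1
    exact of_mulEquiv hG QuotientGroup.quotientBot.symm
  obtain ⟨p, N, hp, hN, hNH, hNe⟩ := exists_normal_elementary_le H h1
  have := hN.normal
  have := Fact.mk hp
  have hQ : IsCNGroup (G ⧸ N) := of_surjective_of_isPGroup hG (QuotientGroup.mk' N)
    (QuotientGroup.mk'_surjective N) (p := p)
    (by rw [QuotientGroup.ker_mk']; exact isPGroup_of_isElementaryAbelian hNe)
  have := ih _ (hn ▸ card_quotient_lt N hN.ne_bot) (G ⧸ N) rfl hQ (H.map (QuotientGroup.mk' N))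
    (isSolvable_map _)
  exact of_mulEquiv this (QuotientGroup.quotientQuotientEquivQuotient N H hNH)

theorem quotient (hG : IsCNGroup G) (H : Subgroup G) [H.Normal] (hH : Group.IsSolvable H) :
    IsCNGroup (G ⧸ H) :=
  quotient_aux _ G rfl hG H hH

/-! ### Maximal nilpotent subgroups -/

/-- A nilpotent subgroup contained in no larger nilpotent subgroup. -/
def IsMaxNil (H : Subgroup G) : Prop :=
  Group.IsNilpotent H ∧ ∀ L : Subgroup G, Group.IsNilpotent L → H ≤ L → L = H

theorem exists_isMaxNil_ge (A : Subgroup G) (hA : Group.IsNilpotent A) :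
    ∃ H : Subgroup G, IsMaxNil H ∧ A ≤ H := by
  obtain ⟨H, hAH, hH⟩ := Finite.exists_le_maximal (p := fun L : Subgroup G => Group.IsNilpotent L)
    hA
  exact ⟨H, ⟨hH.prop, fun L hL h => le_antisymm (hH.le_of_ge hL h) h⟩, hAH⟩

omit [Finite G] in
theorem IsMaxNil.conj {H : Subgroup G} (hH : IsMaxNil H) (g : G) :
    IsMaxNil (MulAut.conj g • H) := by
  have := hH.1
  refine ⟨by rw [Transfer.conj_smul_eq_map]; exact isNilpotent_map _, fun L hL h => ?_⟩
  have h1 : Group.IsNilpotent (MulAut.conj g⁻¹ • L : Subgroup G) := by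
    rw [Transfer.conj_smul_eq_map]; exact isNilpotent_map _
  have h2 := hH.2 _ h1 (by
    have := conj_smul_mono g⁻¹ h
    rwa [conj_inv_smul_conj_smul] at this)
  rw [← h2, conj_smul_conj_inv_smul]

omit [Finite G] in
theorem IsMaxNil.centralizer_eq (hG : IsCNGroup G) {H : Subgroup G} (hH : IsMaxNil H) {z : G}
    (hz : z ≠ 1) (h : H ≤ centralizer {z}) : centralizer {z} = H :=
  hH.2 _ (hG z hz) h

omit [Finite G] in
theorem IsMaxNil.ne_bot [Nontrivial G] {H : Subgroup G} (hH : IsMaxNil H) : H ≠ ⊥ := by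
  rintro rfl
  obtain ⟨g, hg⟩ := exists_ne (1 : G)
  have := hH.2 (zpowers g) (isNilpotent_of_isMulCommutative _) bot_le
  exact hg (by simpa using this)

theorem IsMaxNil.exists_sylow (hG : IsCNGroup G) {H : Subgroup G} (hH : IsMaxNil H) {p : ℕ}
    [hp : Fact p.Prime] (hd : p ∣ Nat.card H) :
    ∃ (P : Sylow p G) (z : G), z ∈ (P : Subgroup G) ∧ z ≠ 1 ∧ (P : Subgroup G) ≤ H ∧
      centralizer {z} = H := by
  have := hH.1
  obtain ⟨P, hP⟩ := (isPGroup_map_subtype_pCore p H).exists_le_sylow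
  have hmem : ∀ x ∈ H, ∀ k : ℕ, x ^ p ^ k = 1 → x ∈ (P : Subgroup G) := fun x hx k hk => by
    refine hP ⟨⟨x, hx⟩, ?_, rfl⟩
    exact le_pCore_of_isNilpotent (K := zpowers (⟨x, hx⟩ : H))
      (isPGroup_zpowers (k := k) (Subtype.ext hk)) (mem_zpowers _)
  obtain ⟨x, hxH, hx⟩ := exists_orderOf_eq_of_dvd hp.out hd
  have hxp : x ^ p ^ 1 = 1 := by rw [pow_one, ← hx, pow_orderOf_eq_one]
  have hx1 := ne_one_of_orderOf_eq hp.out hx
  have hxP := hmem x hxH 1 hxp
  have hP1 : (P : Subgroup G) ≠ ⊥ := fun h => hx1 (by simpa [h] using hxP)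
  have := P.isPGroup'.isNilpotent
  obtain ⟨z, hzP, hz1, hz⟩ := exists_central (P : Subgroup G) hP1
  have hHz : H ≤ centralizer {z} := by
    refine le_of_p_of_p' p (fun y hy k hk => hz (hmem y hy k hk)) fun y hy hyc => ?_
    have h1 := commute_of_mem_of_coprime hxH hy (coprime_of_pow_eq_one hxp hyc)
    have h2 := le_centralizer_of_isPGroup hG P.isPGroup' hxP hx1 h1 hyc hzP
    exact mem_centralizer_singleton_iff.mpr (mem_centralizer_singleton_iff.mp h2).symm
  have he := hH.centralizer_eq hG hz1 hHz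
  exact ⟨P, z, hzP, hz1, he ▸ hz, he⟩

theorem IsMaxNil.coprime (hG : IsCNGroup G) {H : Subgroup G} (hH : IsMaxNil H) :
    (Nat.card H).Coprime H.index := by
  rw [Nat.coprime_iff_isRelPrime]
  refine fun d hd1 hd2 => Nat.isUnit_iff.mpr ?_
  by_contra hd
  obtain ⟨p, hp, hpd⟩ := Nat.exists_prime_and_dvd hd
  have := Fact.mk hp
  obtain ⟨P, -, -, -, hP, -⟩ := hH.exists_sylow hG (hpd.trans hd1)
  exact P.not_dvd_index ((hpd.trans hd2).trans (index_dvd_of_le hP))

/-- A `p'`-element commuting with a non-identity `p`-element of a maximal nilpotent subgroup `H`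
lies in `H`. -/
theorem IsMaxNil.mem_of_commute (hG : IsCNGroup G) {H : Subgroup G} (hH : IsMaxNil H) {p : ℕ}
    [hp : Fact p.Prime] {x y : G} (hxH : x ∈ H) (hx1 : x ≠ 1) {k : ℕ} (hx : x ^ p ^ k = 1)
    (hxy : Commute x y) (hy : (orderOf y).Coprime p) : y ∈ H := by
  have := hH.1
  have hd : p ∣ Nat.card H := by
    obtain ⟨j, -, hj⟩ := (Nat.dvd_prime_pow hp.out).mp (orderOf_dvd_of_pow_eq_one hx)
    refine dvd_trans ?_ (H.orderOf_dvd_natCard hxH)
    rw [hj]
    refine dvd_pow_self p ?_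
    rintro rfl
    exact hx1 (by simpa using hj)
  obtain ⟨P, z, hzP, -, hP, hz⟩ := hH.exists_sylow hG hd
  have h := le_centralizer_of_isPGroup hG P.isPGroup' (mem_sylow_of_isNilpotent P hP hxH hx) hx1
    hxy hy hzP
  rw [← hz]
  exact mem_centralizer_singleton_iff.mpr (mem_centralizer_singleton_iff.mp h).symm

/-- A nilpotent subgroup whose order is not a prime power and which meets a maximal nilpotent
subgroup nontrivially is contained in it. -/
theorem IsMaxNil.le_of_not_isPrimePow (hG : IsCNGroup G) {H L : Subgroup G} (hH : IsMaxNil H)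
    [Group.IsNilpotent L] (hL : ¬ IsPrimePow (Nat.card L)) (h : H ⊓ L ≠ ⊥) : L ≤ H := by
  obtain ⟨⟨w, hwH, hwL⟩, hw1⟩ := (Subgroup.ne_bot_iff_exists_ne_one).mp h
  have hw : w ≠ 1 := fun h => hw1 (Subtype.ext h)
  obtain ⟨p, x, hp, hxw, hx⟩ := exists_prime_pow hw
  have hxH : x ∈ H := zpowers_le.mpr hwH hxw
  have hxL : x ∈ L := zpowers_le.mpr hwL hxw
  have key : ∀ (q : ℕ), q.Prime → ∀ a ∈ H, a ∈ L → orderOf a = q → ∀ y ∈ L,
      (orderOf y).Coprime q → y ∈ H := fun q hq a haH haL ha y hy hyc => by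
    have := Fact.mk hq
    have hap : a ^ q ^ 1 = 1 := by rw [pow_one, ← ha, pow_orderOf_eq_one]
    exact hH.mem_of_commute hG haH (ne_one_of_orderOf_eq hq ha) hap
      (commute_of_mem_of_coprime haL hy (coprime_of_pow_eq_one hap hyc)) hyc
  have hpL : p ∣ Nat.card L := hx ▸ L.orderOf_dvd_natCard hxL
  obtain ⟨q, hq, hqL, hqp⟩ : ∃ q : ℕ, q.Prime ∧ q ∣ Nat.card L ∧ q ≠ p := by
    by_contra hc
    push Not at hc
    exact hL (isPrimePow_iff_unique_prime_dvd.mpr ⟨p, ⟨hp, hpL⟩, fun q hq => hc q hq.1 hq.2⟩)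
  obtain ⟨y, hyL, hy⟩ := exists_orderOf_eq_of_dvd hq hqL
  have hyH : y ∈ H := key p hp x hxH hxL hx y hyL (hy ▸ (Nat.coprime_primes hq hp).mpr hqp)
  have := Fact.mk hp
  refine le_of_p_of_p' p (fun a ha k hk => key q hq y hyH hyL hy a ha ?_)
    fun a ha hc => key p hp x hxH hxL hx a ha hc
  exact Nat.Coprime.coprime_dvd_left (orderOf_dvd_of_pow_eq_one hk)
    (((Nat.coprime_primes hp hq).mpr hqp.symm).pow_left k)

theorem IsMaxNil.inf_conj_eq_bot (hG : IsCNGroup G) {H : Subgroup G} (hH : IsMaxNil H)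
    (hL : ¬ IsPrimePow (Nat.card H)) (g : G) (hg : MulAut.conj g • H ≠ H) :
    H ⊓ MulAut.conj g • H = ⊥ := by
  by_contra h
  have := (hH.conj g).1
  have := hH.le_of_not_isPrimePow hG (L := MulAut.conj g • H) (by rwa [card_conj_smul]) h
  exact hg ((hH.conj g).2 H hH.1 this).symm

theorem IsMaxNil.centralizer_le (hG : IsCNGroup G) {H : Subgroup G} (hH : IsMaxNil H)
    (hTI : ∀ g : G, MulAut.conj g • H ≠ H → H ⊓ MulAut.conj g • H = ⊥) {w : G} (hwH : w ∈ H)
    (hw : w ≠ 1) : centralizer {w} ≤ H := by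
  have := hH.1
  obtain ⟨p, x, hp, hxw, hx⟩ := exists_prime_pow hw
  have := Fact.mk hp
  have hxH : x ∈ H := zpowers_le.mpr hwH hxw
  have hxp : x ^ p ^ 1 = 1 := by rw [pow_one, ← hx, pow_orderOf_eq_one]
  have hx1 := ne_one_of_orderOf_eq hp hx
  have hc : ∀ c ∈ centralizer ({w} : Set G), Commute c x := fun c hc =>
    commute_of_mem_zpowers hxw (mem_centralizer_singleton_iff.mp hc)
  refine le_of_p_of_p' p (fun c hcw k hk => ?_)
    fun c hcw hcp => hH.mem_of_commute hG hxH hx1 hxp (hc c hcw).symm hcp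
  obtain ⟨P, -, -, -, hP, -⟩ := hH.exists_sylow hG (hx ▸ H.orderOf_dvd_natCard hxH)
  have hn : MulAut.conj c • H = H := by
    by_contra hne
    have : x ∈ H ⊓ MulAut.conj c • H := ⟨hxH, mem_conj_smul.mpr (by
      rw [mul_assoc, ← (hc c hcw).eq, inv_mul_cancel_left]; exact hxH)⟩
    rw [hTI c hne] at this
    exact hx1 this
  refine hP (mem_sylow_of_mem_normalizer P hk (mem_normalizer_of_conj_smul_le ?_))
  rw [conj_smul_le_iff]
  intro a ha
  obtain ⟨j, hj⟩ := exists_pow_eq_one_of_mem P.isPGroup' ha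
  refine mem_sylow_of_isNilpotent P hP (hn ▸ conj_mem_conj_smul.mpr (hP ha)) (k := j) ?_
  rw [conj_pow, hj, mul_one, mul_inv_cancel]

end CL.CN
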