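import Cfsg.Agent.CN.Struct
import Cfsg.Agent.BG.PStable
import Cfsg.Agent.PLocal.ZJConstrained
import Cfsg.Prelude.Def_OddOrder

/-!
# Minimal simple CN-groups of odd order
-/

namespace CL.CN

open Cfsg Subgroup CL.Transfer
open scoped Pointwise

variable {G : Type*} [Group G] [Finite G]

/-- No non-identity `p`-element commutes with a non-identity `p'`-element. -/
def Isolated (p : ℕ) (G : Type*) [Group G] : Prop :=
  ∀ x y : G, x ≠ 1 → (∃ k, x ^ p ^ k = 1) → (orderOf y).Coprime p → Commute x y → y = 1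

theorem Isolated.isPGroup_of_le_centralizer {p : ℕ} [Fact p.Prime] (h : Isolated p G) {x : G}
    (hx1 : x ≠ 1) (hx : ∃ k, x ^ p ^ k = 1) {C : Subgroup G} (hC : C ≤ centralizer {x}) :
    IsPGroup p C := by
  rintro ⟨c, hc⟩
  obtain ⟨a, b, -, hb, ⟨k, hk⟩, hbc, hab⟩ := exists_p_part_mul_p'_part (p := p) c
  have := h x b hx1 hx hbc
    (commute_of_mem_zpowers hb (mem_centralizer_singleton_iff.mp (hC hc)).symm)
  refine ⟨k, Subtype.ext ?_⟩
  change c ^ p ^ k = 1
  rw [hab, this, mul_one, hk]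

/-- In a group of odd order with `p` isolated, `N(Z(J(P)))` is strongly `p`-embedded. -/
theorem Isolated.normalizer_le (hodd : Odd (Nat.card G)) {p : ℕ} [hp : Fact p.Prime]
    (h : Isolated p G) (P : Sylow p G) {Q : Subgroup G} (hQP : Q ≤ P) (hQ1 : Q ≠ ⊥) :
    normalizer (Q : Set G) ≤ normalizer (ZJ.Z 0 (P : Subgroup G) : Set G) := by
  have hQ : IsPGroup p Q := P.isPGroup'.to_le hQP
  have hp2 : p ≠ 2 := by
    rintro rfl
    obtain ⟨k, hk⟩ := hQ.exists_card_eq
    have hk0 : k ≠ 0 := by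
      rintro rfl
      exact hQ1 (card_eq_one.mp (by simpa using hk))
    exact (Nat.not_even_iff_odd.mpr hodd) (even_iff_two_dvd.mpr
      ((hk ▸ dvd_pow_self 2 hk0).trans (card_subgroup_dvd_card Q)))
  refine ZJ.normalizer_le_normalizer_Z_of_locals hp2 (Or.inl rfl) (fun R hR hR1 => ⟨?_, ?_⟩) P Q
    hQ hQ1 (hQP.trans (le_normalizer.trans ZJ.normalizer_le_normalizer_ZJ)) Q hQ hQ1 le_normalizer
  · exact ZJ.stab_of_isPStableOn fun T _ hT =>
      BG.odd_isPStableOn (hodd.of_dvd_nat (card_subgroup_dvd_card _)) T hT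
  · obtain ⟨⟨x, hx⟩, hx1⟩ := (Subgroup.ne_bot_iff_exists_ne_one).mp hR1
    have hx1' : x ≠ 1 := fun h => hx1 (Subtype.ext h)
    have hxO : (⟨x, le_normalizer hx⟩ : normalizer (R : Set G)) ∈
        pCore p (normalizer (R : Set G)) := by
      have : (R.subgroupOf (normalizer (R : Set G))).Normal := normal_in_normalizer
      exact le_pCore (IsPGroup_subgroupOf hR (normalizer (R : Set G))) hx
    refine le_pCore (isPGroup_map_subtype_iff.mp
      (h.isPGroup_of_le_centralizer hx1' (exists_pow_eq_one_of_mem hR hx) ?_))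
    rintro _ ⟨c, hc, rfl⟩
    exact mem_centralizer_singleton_iff.mpr (congrArg Subtype.val (hc _ hxO)).symm

/-- If a subgroup normalizes a Sylow `p`-subgroup of `G`, its own Sylow `p`-subgroups are normal. -/
theorem sylow_normal_of_le_normalizer {p : ℕ} [Fact p.Prime] (P : Sylow p G) {H : Subgroup G}
    (hH : H ≤ normalizer ((P : Subgroup G) : Set G)) (S : Sylow p H) :
    (S : Subgroup H).Normal := by
  have h1 : (S : Subgroup H) ≤ (P : Subgroup G).subgroupOf H := fun x hx => by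
    obtain ⟨k, hk⟩ := exists_pow_eq_one_of_mem S.isPGroup' hx
    exact mem_sylow_of_mem_normalizer P (k := k) (congrArg Subtype.val hk) (hH x.2)
  rw [← S.is_maximal' (IsPGroup_subgroupOf P.isPGroup' H) h1]
  exact normal_subgroupOf_of_le_normalizer' hH

theorem normalizer_le_normalizer_sylow {p : ℕ} [Fact p.Prime] (P : Sylow p G) {H : Subgroup G}
    [Group.IsNilpotent H] (hP : (P : Subgroup G) ≤ H) :
    normalizer (H : Set G) ≤ normalizer ((P : Subgroup G) : Set G) := by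
  intro c hc
  refine mem_normalizer_of_conj_smul_le (conj_smul_le_iff.mpr fun a ha => ?_)
  obtain ⟨j, hj⟩ := exists_pow_eq_one_of_mem P.isPGroup' ha
  refine mem_sylow_of_isNilpotent P hP ((mem_normalizer_iff.mp hc a).mp (hP ha)) (k := j) ?_
  rw [conj_pow, hj, mul_one, mul_inv_cancel]

theorem not_isPrimePow_of_dvd {n p q : ℕ} (hp : p.Prime) (hq : q.Prime) (hpq : p ≠ q)
    (h1 : p ∣ n) (h2 : q ∣ n) : ¬ IsPrimePow n := fun h => by
  obtain ⟨r, -, hr⟩ := isPrimePow_iff_unique_prime_dvd.mp h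
  exact hpq ((hr p ⟨hp, h1⟩).trans (hr q ⟨hq, h2⟩).symm)

theorem dvd_card_of_pow_eq_one {p : ℕ} (hp : p.Prime) {H : Subgroup G} {x : G} (hxH : x ∈ H)
    (hx1 : x ≠ 1) {k : ℕ} (hx : x ^ p ^ k = 1) : p ∣ Nat.card H := by
  obtain ⟨j, -, hj⟩ := (Nat.dvd_prime_pow hp).mp (orderOf_dvd_of_pow_eq_one hx)
  refine dvd_trans ?_ (H.orderOf_dvd_natCard hxH)
  rw [hj]
  refine dvd_pow_self p ?_
  rintro rfl
  exact hx1 (by simpa using hj)

/-- If `p` is not isolated, every Sylow `p`-subgroup lies in a maximal nilpotent subgroup whose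
order is not a prime power. -/
theorem exists_isMaxNil_of_not_isolated (hG : IsCNGroup G) {p : ℕ} [hp : Fact p.Prime]
    (h : ¬ Isolated p G) (P : Sylow p G) :
    ∃ M : Subgroup G, IsMaxNil M ∧ (P : Subgroup G) ≤ M ∧ ¬ IsPrimePow (Nat.card M) := by
  simp only [Isolated, not_forall] at h
  obtain ⟨x, y, hx1, ⟨k, hk⟩, hy, hxy, hy1⟩ := h
  obtain ⟨g, hg⟩ := exists_conj_le_sylow P (isPGroup_zpowers hk)
  have hx' : g * x * g⁻¹ ∈ (P : Subgroup G) := hg (conj_mem_conj_smul.mpr (mem_zpowers x))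
  have hy' : (orderOf (g * y * g⁻¹)).Coprime p := by
    rwa [← MulAut.conj_apply, MulEquiv.orderOf_eq]
  have hy1' : g * y * g⁻¹ ≠ 1 := by simpa using hy1
  have hx1' : g * x * g⁻¹ ≠ 1 := by simpa using hx1
  have hP := le_centralizer_of_isPGroup hG P.isPGroup' hx' hx1' (hxy.conj g) hy'
  obtain ⟨M, hM, hle⟩ := exists_isMaxNil_ge _ (hG _ hy1')
  obtain ⟨q, z, hq, hz, hzq⟩ := exists_prime_pow hy1'
  refine ⟨M, hM, hP.trans hle, not_isPrimePow_of_dvd hp.out hq ?_
    (dvd_card_of_pow_eq_one hp.out (hle (hP hx')) hx1' (k := k)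
      (by rw [conj_pow, hk, mul_one, mul_inv_cancel]))
    (hzq ▸ M.orderOf_dvd_natCard (hle (mem_centralizer_singleton_iff.mpr
      (commute_of_mem_zpowers hz (Commute.refl _)).symm)))⟩
  rintro rfl
  exact hp.out.one_lt.ne' (Nat.eq_one_of_dvd_coprimes hy'
    (hzq ▸ orderOf_dvd_of_mem_zpowers hz) dvd_rfl)

theorem isolated_of_threeStep (hG : IsCNGroup G) {p : ℕ} [hp : Fact p.Prime] {H : Subgroup G}
    (h : IsThreeStepGroup p H) : Isolated p G := by
  by_contra hn
  obtain ⟨P, hP⟩ := (isPGroup_map_subtype_pCore p H).exists_le_sylow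
  obtain ⟨M, hM, hPM, hM2⟩ := exists_isMaxNil_of_not_isolated hG hn P
  have := hM.1
  have hD1 : (pCore p H).map H.subtype ≠ ⊥ := fun hb =>
    h.1 ((map_eq_bot_iff_of_injective _ H.subtype_injective).mp hb)
  have hH : H ≤ normalizer (M : Set G) := fun g hg => by
    rw [← conj_smul_eq_iff_mem_normalizer]
    by_contra hne
    refine hD1 (le_bot_iff.mp ?_)
    rw [← hM.inf_conj_eq_bot hG hM2 g hne]
    refine le_inf (hP.trans hPM) ?_
    rw [← conj_smul_eq_iff_mem_normalizer.mpr (le_normalizer_map_subtype H (pCore p H) hg)]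
    exact conj_smul_mono g (hP.trans hPM)
  obtain ⟨S⟩ : Nonempty (Sylow p H) := inferInstance
  exact threeStep_not_normal_sylow h S (fun hb => h.1 (le_bot_iff.mp (hb ▸ pCore_le_sylow S)))
    (sylow_normal_of_le_normalizer P (hH.trans (normalizer_le_normalizer_sylow P hPM)) S)

/-- With `p` isolated, a subgroup with `O_p ≠ 1` has `O_q = 1` for `q ≠ p`. -/
theorem Isolated.eq_of_pCore_ne_bot {p q : ℕ} [hp : Fact p.Prime] [hq : Fact q.Prime]
    (h : Isolated p G) {M : Subgroup G} (h1 : pCore p M ≠ ⊥) (h2 : pCore q M ≠ ⊥) : q = p := by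
  by_contra hne
  obtain ⟨⟨x, hx⟩, hx1⟩ := (Subgroup.ne_bot_iff_exists_ne_one).mp h1
  obtain ⟨⟨y, hy⟩, hy1⟩ := (Subgroup.ne_bot_iff_exists_ne_one).mp h2
  obtain ⟨k, hk⟩ := exists_pow_eq_one_of_mem (pCore_isPGroup p M) hx
  obtain ⟨j, hj⟩ := exists_pow_eq_one_of_mem (pCore_isPGroup q M) hy
  refine hy1 (Subtype.ext (Subtype.ext (h x y (fun h => hx1 (Subtype.ext (Subtype.ext h)))
    ⟨k, congrArg Subtype.val hk⟩ ?_
    (congrArg Subtype.val (pCore_le_centralizer_pCore_of_ne hne hy x hx)))))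
  rw [Subgroup.orderOf_coe]
  exact Nat.Coprime.coprime_dvd_left (orderOf_dvd_of_pow_eq_one hj)
    (((Nat.coprime_primes hq.out hp.out).mpr hne).pow_left j)

section MinSimple

variable (hS : IsMinSimpleOddOrder G)
include hS

omit [Finite G] in
theorem min_not_solvable : ¬ Group.IsSolvable G := fun h => by
  have := hS.2.1
  exact hS.2.2.1 ⟨⟨IsSimpleGroup.comm_iff_isSolvable.mpr h⟩⟩

omit [Finite G] in
theorem min_eq_bot_of_normal {N : Subgroup G} (hN : N.Normal) (hs : Group.IsSolvable N) :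
    N = ⊥ := by
  have := hS.2.1
  rcases hN.eq_bot_or_eq_top with h | h
  · exact h
  · subst h
    exact (min_not_solvable hS (Group.isSolvable_of_surjective (f := (⊤ : Subgroup G).subtype)
      fun x => ⟨⟨x, mem_top x⟩, rfl⟩)).elim

omit [Finite G] in
theorem min_normalizer_ne_top {N : Subgroup G} (h1 : N ≠ ⊥) (hs : Group.IsSolvable N) :
    normalizer (N : Set G) ≠ ⊤ := fun h =>
  h1 (min_eq_bot_of_normal hS (normalizer_eq_top_iff.mp h) hs)

theorem min_pResidual_eq_top (p : ℕ) [Fact p.Prime] : pResidual p G = ⊤ := by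
  have := hS.2.1
  rcases (pResidual_normal (p := p) (G := G)).eq_bot_or_eq_top with h | h
  · have := (pResidual_eq_bot_iff.mp h).isNilpotent
    exact (min_not_solvable hS inferInstance).elim
  · exact h

theorem min_not_hasNormalPComplement {p : ℕ} [Fact p.Prime] (hd : p ∣ Nat.card G) :
    ¬ HasNormalPComplement p G := fun h => by
  rw [hasNormalPComplement_iff_not_dvd, min_pResidual_eq_top hS p, card_top] at h
  exact h hd

variable (hG : IsCNGroup G)
include hG

theorem not_threeStep_prime (H : Subgroup G) (p : ℕ) [hp : Fact p.Prime] :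
    ¬ IsThreeStepGroup p H := by
  intro h
  have hI := isolated_of_threeStep hG h
  obtain ⟨P, hP⟩ := (isPGroup_map_subtype_pCore p H).exists_le_sylow
  have hD1 : (pCore p H).map H.subtype ≠ ⊥ := fun hb =>
    h.1 ((map_eq_bot_iff_of_injective _ H.subtype_injective).mp hb)
  have hP1 : (P : Subgroup G) ≠ ⊥ := fun hb => hD1 (le_bot_iff.mp (hb ▸ hP))
  set Z := ZJ.Z 0 (P : Subgroup G) with hZ
  have hZ1 : Z ≠ ⊥ := ZJ.Z_ne_bot (Or.inl rfl) P.isPGroup' hP1
  have hZp : IsPGroup p Z := P.isPGroup'.to_le ZJ.ZJ_le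
  set M := normalizer (Z : Set G) with hM
  have hMt : M ≠ ⊤ := min_normalizer_ne_top hS hZ1 (by have := hZp.isNilpotent; infer_instance)
  have hMs : Group.IsSolvable M := hS.2.2.2 M hMt
  have hloc : ∀ Q : Subgroup G, Q ≤ P → Q ≠ ⊥ → normalizer (Q : Set G) ≤ M := fun Q h1 h2 =>
    hI.normalizer_le hS.1 P h1 h2
  have hPM : (P : Subgroup G) ≤ M := le_normalizer.trans (hloc _ le_rfl hP1)
  have hHM : H ≤ M := (le_normalizer_map_subtype H (pCore p H)).trans (hloc _ hP hD1)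
  have hfus : ∀ x ∈ (P : Subgroup G), ∀ g : G, g * x * g⁻¹ ∈ (P : Subgroup G) →
      ∃ v ∈ M, v * x * v⁻¹ = g * x * g⁻¹ := by
    intro x hx g hg
    obtain ⟨v, hv, hv'⟩ := control_fusion_of_essential P M
      (fun y hy => ⟨y, hloc _ le_rfl hP1 hy, fun _ _ => rfl⟩)
      (fun D y hD hy => by
        by_cases hD1 : D = ⊥
        · refine ⟨1, M.one_mem, fun a ha => ?_⟩
          rw [hD1, mem_bot] at ha
          simp [ha]
        · exact ⟨y, hloc D hD.1.1 hD1 hy, fun _ _ => rfl⟩)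
      (zpowers x) g (zpowers_le.mpr hx) (conj_smul_le_iff.mpr fun a ha => by
        obtain ⟨n, rfl⟩ := mem_zpowers_iff.mp ha
        rw [← conj_zpow]
        exact zpow_mem hg n)
    exact ⟨v, hv, hv' x (mem_zpowers x)⟩
  have hres : pResidual p M = ⊤ := by
    have h1 := inf_pResidual_eq_of_control_fusion P hPM hfus
    rw [min_pResidual_eq_top hS p, inf_top_eq, left_eq_inf] at h1
    rw [← sylow_sup_pResidual (P.subtype hPM), eq_comm, sup_eq_right, Sylow.coe_subtype]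
    intro x hx
    obtain ⟨y, hy, hyx⟩ := h1 hx
    rwa [← Subtype.ext hyx]
  have hOM : pCore p M ≠ ⊥ := fun hb => hZ1 (le_bot_iff.mp (by
    have := le_map_subtype_pCore (p := p) (K := M) le_normalizer le_rfl hZp
    rwa [hb, Subgroup.map_bot] at this))
  have : Nontrivial M := (Subgroup.nontrivial_iff_ne_bot M).mpr fun hb =>
    hP1 (le_bot_iff.mp (hb ▸ hPM))
  obtain ⟨r, hr, h3⟩ := exists_threeStep (subgroup hG M) fun q hq Q hQ1 hQ => by
    have hqp : q = p := hI.eq_of_pCore_ne_bot hOM (by rwa [pCore_eq_sylow_of_normal Q hQ])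
    subst hqp
    have hQP : Q = P.subtype hPM := by
      have := Sylow.unique_of_normal Q hQ
      exact Subsingleton.elim _ _
    rw [hQP, Sylow.coe_subtype] at hQ
    obtain ⟨S⟩ : Nonempty (Sylow q H) := inferInstance
    exact threeStep_not_normal_sylow h S (fun hb => h.1 (le_bot_iff.mp (hb ▸ pCore_le_sylow S)))
      (sylow_normal_of_le_normalizer P
        (hHM.trans ((normal_subgroupOf_iff_le_normalizer hPM).mp hQ)) S)
  have := Fact.mk hr
  obtain rfl := hI.eq_of_pCore_ne_bot hOM h3.1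
  exact threeStep_pResidual_ne_top h3 hres

theorem exists_normal_sylow {M : Subgroup G} (h1 : M ≠ ⊥) (h2 : M ≠ ⊤) :
    ∃ (q : ℕ) (_ : Fact q.Prime) (Q : Sylow q M), (Q : Subgroup M) ≠ ⊥ ∧
      (Q : Subgroup M).Normal := by
  by_contra hc
  push Not at hc
  have := hS.2.2.2 M h2
  have := (Subgroup.nontrivial_iff_ne_bot M).mpr h1
  obtain ⟨r, hr, h3⟩ := exists_threeStep (subgroup hG M) hc
  have := Fact.mk hr
  exact not_threeStep_prime hS hG M r h3

theorem not_threeStep (H : Subgroup G) (p : ℕ) : ¬ IsThreeStepGroup p H := by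
  intro h
  have h1 : H ≠ ⊥ := by
    rintro rfl
    exact h.1 (Subsingleton.elim _ _)
  have h2 : H ≠ ⊤ := by
    rintro rfl
    have := hS.2.1
    have : IsSimpleGroup (⊤ : Subgroup G) := topEquiv.isSimpleGroup
    obtain ⟨hO, A, -, -, -, -, -, hne, -⟩ := h
    rcases (inferInstance : (pCore p (⊤ : Subgroup G)).Normal).eq_bot_or_eq_top with h | h
    · exact hO h
    · exact hne (by rw [h, top_sup_eq])
  obtain ⟨q, hq, Q, hQ1, hQ⟩ := exists_normal_sylow hS hG h1 h2
  exact threeStep_not_normal_sylow h Q hQ1 hQ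

/-- Maximal nilpotent subgroups are TI-subgroups. -/
theorem IsMaxNil.min_TI {H : Subgroup G} (hH : IsMaxNil H) (g : G) (hg : MulAut.conj g • H ≠ H) :
    H ⊓ MulAut.conj g • H = ⊥ := by
  by_cases hpp : IsPrimePow (Nat.card H)
  swap
  · exact hH.inf_conj_eq_bot hG hpp g hg
  obtain ⟨p, k, hp, hk, hpk⟩ := (isPrimePow_nat_iff _).mp hpp
  have := Fact.mk hp
  obtain ⟨P, -, -, -, hPH, -⟩ := hH.exists_sylow hG (hpk ▸ dvd_pow_self p hk.ne')
  obtain rfl : H = P := P.is_maximal' (IsPGroup.of_card hpk.symm) hPH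
  have hI : Isolated p G := by
    by_contra hn
    obtain ⟨M, hM, hPM, hM2⟩ := exists_isMaxNil_of_not_isolated hG hn P
    rw [hH.2 M hM.1 hPM] at hM2
    exact hM2 hpp
  have key : ∀ (S : Sylow p G) (Q : Subgroup G), Q ≤ S → Q ≠ ⊥ →
      normalizer (Q : Set G) ≤ normalizer ((S : Subgroup G) : Set G) := by
    intro S Q hQS hQ1
    have hS1 : (S : Subgroup G) ≠ ⊥ := fun hb => hQ1 (le_bot_iff.mp (hb ▸ hQS))
    have hZ1 : ZJ.Z 0 (S : Subgroup G) ≠ ⊥ := ZJ.Z_ne_bot (Or.inl rfl) S.isPGroup' hS1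
    have hZp : IsPGroup p (ZJ.Z 0 (S : Subgroup G)) := S.isPGroup'.to_le ZJ.ZJ_le
    refine (hI.normalizer_le hS.1 S hQS hQ1).trans ?_
    set M := normalizer (ZJ.Z 0 (S : Subgroup G) : Set G) with hM
    have hSM : (S : Subgroup G) ≤ M := le_normalizer.trans ZJ.normalizer_le_normalizer_ZJ
    have hOM : pCore p M ≠ ⊥ := fun hb => hZ1 (le_bot_iff.mp (by
      have := le_map_subtype_pCore (p := p) (K := M) le_normalizer le_rfl hZp
      rwa [hb, Subgroup.map_bot] at this))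
    obtain ⟨q, hq, T, hT1, hT⟩ := exists_normal_sylow hS hG (M := M)
      (fun hb => hS1 (le_bot_iff.mp (hb ▸ hSM)))
      (min_normalizer_ne_top hS hZ1 (by have := hZp.isNilpotent; infer_instance))
    have hqp : q = p := hI.eq_of_pCore_ne_bot hOM (by rwa [pCore_eq_sylow_of_normal T hT])
    subst hqp
    have hTS : T = S.subtype hSM := by
      have := Sylow.unique_of_normal T hT
      exact Subsingleton.elim _ _
    rw [hTS, Sylow.coe_subtype] at hT
    exact (normal_subgroupOf_iff_le_normalizer hSM).mp hT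
  by_contra hD1
  have hlt : (P : Subgroup G) ⊓ MulAut.conj g • (P : Subgroup G) <
      MulAut.conj g • (P : Subgroup G) := by
    refine lt_of_le_of_ne inf_le_right fun he => hg ?_
    exact (eq_of_le_of_card_ge (inf_eq_right.mp he) (by rw [card_conj_smul]))
  obtain ⟨x, hx, hxD⟩ := SetLike.exists_of_lt
    (lt_inf_normalizer (isPGroup_conj_smul P.isPGroup' g) hlt)
  obtain ⟨j, hj⟩ := exists_pow_eq_one_of_mem (isPGroup_conj_smul P.isPGroup' g) hx.1
  exact hxD ⟨mem_sylow_of_mem_normalizer P hj (key P _ inf_le_left hD1 hx.2), hx.1⟩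

theorem IsMaxNil.min_centralizer_le {H : Subgroup G} (hH : IsMaxNil H) {x : G} (hx : x ∈ H)
    (hx1 : x ≠ 1) : centralizer {x} ≤ H :=
  hH.centralizer_le hG (hH.min_TI hS hG) hx hx1

theorem IsMaxNil.min_le_of_inf_ne_bot {H L : Subgroup G} (hH : IsMaxNil H)
    [Group.IsNilpotent L] (h : H ⊓ L ≠ ⊥) : L ≤ H := by
  obtain ⟨⟨w, hwH, hwL⟩, hw1⟩ := (Subgroup.ne_bot_iff_exists_ne_one).mp h
  have hw : w ≠ 1 := fun h => hw1 (Subtype.ext h)
  obtain ⟨z, -, hz1, hz⟩ := exists_central L fun hb => hw (by simpa [hb] using hwL)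
  exact hz.trans (hH.min_centralizer_le hS hG (hH.min_centralizer_le hS hG hwH hw
    (mem_centralizer_singleton_iff.mpr (mem_centralizer_singleton_iff.mp (hz hwL)).symm)) hz1)

theorem IsMaxNil.min_eq_of_inf_ne_bot {H L : Subgroup G} (hH : IsMaxNil H) (hL : IsMaxNil L)
    (h : H ⊓ L ≠ ⊥) : H = L :=
  have := hL.1
  hL.2 H hH.1 (hH.min_le_of_inf_ne_bot hS hG h)

theorem IsMaxNil.min_conj_or_coprime {H L : Subgroup G} (hH : IsMaxNil H) (hL : IsMaxNil L) :
    (∃ g : G, L = MulAut.conj g • H) ∨ (Nat.card H).Coprime (Nat.card L) := by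
  by_cases hc : (Nat.card H).Coprime (Nat.card L)
  · exact Or.inr hc
  left
  obtain ⟨p, hp, h1, h2⟩ := Nat.Prime.not_coprime_iff_dvd.mp hc
  have := Fact.mk hp
  obtain ⟨P, -, -, -, hP, -⟩ := hH.exists_sylow hG h1
  obtain ⟨Q, z, hz, hz1, hQ, -⟩ := hL.exists_sylow hG h2
  obtain ⟨g, rfl⟩ := MulAction.exists_smul_eq G P Q
  refine ⟨g, hL.min_eq_of_inf_ne_bot hS hG (hH.conj g) fun hb => hz1 ?_⟩
  have : z ∈ L ⊓ MulAut.conj g • H := ⟨hQ hz, conj_smul_mono g hP hz⟩
  rwa [hb] at this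

omit hG in
theorem IsMaxNil.min_ne_bot {H : Subgroup G} (hH : IsMaxNil H) : H ≠ ⊥ :=
  have := hS.2.1
  hH.ne_bot

omit hG in
theorem IsMaxNil.min_normalizer_ne_top {H : Subgroup G} (hH : IsMaxNil H) :
    normalizer (H : Set G) ≠ ⊤ :=
  have := hH.1
  CN.min_normalizer_ne_top hS (hH.min_ne_bot hS) inferInstance

theorem IsMaxNil.min_lt_normalizer {H : Subgroup G} (hH : IsMaxNil H) :
    H < normalizer (H : Set G) := by
  refine lt_of_le_of_ne le_normalizer fun he => ?_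
  have := hH.1
  obtain ⟨p, hp, hd⟩ := Nat.exists_prime_and_dvd (fun h1 => hH.min_ne_bot hS (card_eq_one.mp h1))
  have := Fact.mk hp
  obtain ⟨P, -, -, -, hP, -⟩ := hH.exists_sylow hG hd
  refine min_not_hasNormalPComplement hS (hd.trans (card_subgroup_dvd_card H))
    (hasNormalPComplement_of_control_fusion P hP (fun x hx g hg => ?_)
      hasNormalPComplement_of_isNilpotent)
  by_cases hx1 : x = 1
  · exact ⟨1, H.one_mem, by simp [hx1]⟩
  refine ⟨g, ?_, rfl⟩
  rw [he, ← conj_smul_eq_iff_mem_normalizer]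
  by_contra hne
  have : g * x * g⁻¹ ∈ H ⊓ MulAut.conj g • H := ⟨hP hg, conj_mem_conj_smul.mpr (hP hx)⟩
  rw [hH.min_TI hS hG g hne] at this
  exact hx1 (by simpa using this)

/-- The Frobenius structure of a proper non-nilpotent subgroup. -/
theorem min_exists_complement {M : Subgroup G} (h2 : M ≠ ⊤) (hnn : ¬ Group.IsNilpotent M) :
    fittingHallOf M ≠ ⊥ ∧ ∃ E : Subgroup G, IsComplIn (fittingHallOf M) E M ∧ E ≠ ⊥ ∧
      Group.IsNilpotent (M ⧸ fittingHall M) ∧
      (∀ e ∈ E, e ≠ 1 → fittingHallOf M ⊓ centralizer {e} = ⊥) ∧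
      ∀ k ∈ fittingHallOf M, k ≠ 1 → M ⊓ centralizer {k} ≤ fittingHallOf M := by
  have h1 : M ≠ ⊥ := by
    rintro rfl
    exact hnn inferInstance
  obtain ⟨q, hq, Q, hQ1, hQ⟩ := exists_normal_sylow hS hG h1 h2
  have hK := fittingHall_ne_bot_of_normal_sylow Q hQ1 hQ
  obtain ⟨E, hE, hE1, hEn, hf⟩ := exists_complement (subgroup hG M) hnn hK
  refine ⟨fun h => hK (BG.fcore_eq_bot_iff.mp h), E.map M.subtype, ⟨BG.fcore_le M,
    map_subtype_le _, ?_, fun m hm => ?_⟩,
    fun h => hE1 ((map_eq_bot_iff_of_injective _ M.subtype_injective).mp h),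
    isNilpotent_of_injective hE.symm.QuotientMulEquiv.toMonoidHom
      hE.symm.QuotientMulEquiv.injective, ?_, ?_⟩
  · rw [fittingHallOf, ← map_inf _ _ _ M.subtype_injective, hE.disjoint.eq_bot, Subgroup.map_bot]
  · obtain ⟨⟨a, b⟩, hab⟩ := (hE.existsUnique ⟨m, hm⟩).exists
    exact ⟨a, ⟨a, a.2, rfl⟩, b, ⟨b, b.2, rfl⟩, (congrArg Subtype.val hab).symm⟩
  · rw [Frob.fpf_iff] at hf ⊢
    rintro _ ⟨e, he, rfl⟩ _ ⟨k, hk, rfl⟩ h
    rcases hf e he k hk (Subtype.ext h) with h | h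
    · exact Or.inl (by simp [h])
    · exact Or.inr (by simp [h])
  · rintro _ ⟨k, hk, rfl⟩ hk1 c ⟨hcM, hc⟩
    exact ⟨⟨c, hcM⟩, ((Frob.isMalnormal_iff_fpf hE).mpr hf).centralizer_le_kernel hE hk
      (fun h => hk1 (by simp [h]))
      (mem_centralizer_singleton_iff.mpr (Subtype.ext (mem_centralizer_singleton_iff.mp hc))),
      rfl⟩

omit hS hG [Finite G] in
theorem IsMaxNil.not_isNilpotent_of_lt {H M : Subgroup G} (hH : IsMaxNil H) (h : H < M) :
    ¬ Group.IsNilpotent M := fun hn => h.ne' (hH.2 M hn h.le)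

theorem IsMaxNil.min_fittingHallOf_eq {H M : Subgroup G} (hH : IsMaxNil H)
    (hM : normalizer (H : Set G) ≤ M) (h2 : M ≠ ⊤) : fittingHallOf M = H := by
  have hlt := hH.min_lt_normalizer hS hG
  obtain ⟨hK1, E, -, -, hQ, -, hc⟩ := min_exists_complement hS hG h2
    (hH.not_isNilpotent_of_lt (lt_of_lt_of_le hlt hM))
  have := BG.fcore_nilpotent M
  have := hH.1
  set K := fittingHallOf M with hK
  have hHM : H ≤ M := hlt.le.trans hM
  by_cases hHK : H ⊓ K = ⊥
  · exfalso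
    refine hH.not_isNilpotent_of_lt hlt ?_
    have hNK : ∀ x ∈ normalizer (H : Set G), x ∈ K → x = 1 := by
      intro x hxN hxK
      obtain ⟨⟨h, hh⟩, hh1⟩ := (Subgroup.ne_bot_iff_exists_ne_one).mp (hH.min_ne_bot hS)
      have h3 : x * h * x⁻¹ * h⁻¹ ∈ H ⊓ K := by
        refine ⟨H.mul_mem ((mem_normalizer_iff.mp hxN h).mp hh) (H.inv_mem hh), ?_⟩
        have h4 : h * x⁻¹ * h⁻¹ ∈ K :=
          (mem_normalizer_iff.mp ((BG.fcore_normal M).2 (hHM hh)) x⁻¹).mp (K.inv_mem hxK)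
        have := K.mul_mem hxK h4
        simpa [mul_assoc] using this
      rw [hHK, mem_bot] at h3
      have h5 : x ∈ H := hH.min_centralizer_le hS hG hh (fun h => hh1 (Subtype.ext h))
        (mem_centralizer_singleton_iff.mpr (by
          calc x * h = x * h * x⁻¹ * h⁻¹ * (h * x) := by group
            _ = h * x := by rw [h3, one_mul]))
      have : x ∈ H ⊓ K := ⟨h5, hxK⟩
      rwa [hHK] at this
    refine isNilpotent_of_injective ((QuotientGroup.mk' (fittingHall M)).comp (inclusion hM)) ?_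
    rw [injective_iff_map_eq_one]
    intro x hx
    exact Subtype.ext (hNK x x.2 (BG.mem_fcore_iff.mpr ((QuotientGroup.eq_one_iff _).mp hx)))
  · have h3 : K ≤ H := hH.min_le_of_inf_ne_bot hS hG hHK
    refine le_antisymm h3 ?_
    obtain ⟨z, hz, hz1, hzc⟩ := exists_central H (hH.min_ne_bot hS)
    obtain ⟨⟨k, hk⟩, hk1⟩ := (Subgroup.ne_bot_iff_exists_ne_one).mp hK1
    have hzK : z ∈ K := hc k hk (fun h => hk1 (Subtype.ext h)) ⟨hHM hz,
      mem_centralizer_singleton_iff.mpr (mem_centralizer_singleton_iff.mp (hzc (h3 hk))).symm⟩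
    exact fun h hh => hc z hzK hz1 ⟨hHM hh, hzc hh⟩

theorem IsMaxNil.min_isCoatom {H : Subgroup G} (hH : IsMaxNil H) :
    IsCoatom (normalizer (H : Set G)) := by
  refine ⟨hH.min_normalizer_ne_top hS, fun M hM => ?_⟩
  by_contra h2
  refine hM.not_ge ?_
  rw [← hH.min_fittingHallOf_eq hS hG hM.le h2]
  exact (BG.fcore_normal M).2

theorem IsMaxNil.min_exists_complement {H : Subgroup G} (hH : IsMaxNil H) :
    ∃ E : Subgroup G, IsComplIn H E (normalizer (H : Set G)) ∧ E ≠ ⊥ ∧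
      ∀ e ∈ E, e ≠ 1 → H ⊓ centralizer {e} = ⊥ := by
  obtain ⟨-, E, h1, h2, -, h3, -⟩ := CN.min_exists_complement hS hG (hH.min_normalizer_ne_top hS)
    (hH.not_isNilpotent_of_lt (hH.min_lt_normalizer hS hG))
  rw [hH.min_fittingHallOf_eq hS hG le_rfl (hH.min_normalizer_ne_top hS)] at h1 h3
  exact ⟨E, h1, h2, h3⟩

theorem min_coatom {M : Subgroup G} (hM : IsCoatom M) :
    IsMaxNil (fittingHallOf M) ∧ normalizer (fittingHallOf M : Set G) = M := by
  have hnn : ¬ Group.IsNilpotent M := fun hn => by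
    have hH : IsMaxNil M := ⟨hn, fun L hL h => by
      by_contra hne
      have := hM.2 L (lt_of_le_of_ne h (Ne.symm hne))
      subst this
      exact min_not_solvable hS (Group.isSolvable_of_surjective (f := (⊤ : Subgroup G).subtype)
        fun x => ⟨⟨x, mem_top x⟩, rfl⟩)⟩
    exact hH.min_normalizer_ne_top hS (hM.2 _ (hH.min_lt_normalizer hS hG))
  obtain ⟨hK1, -⟩ := min_exists_complement hS hG hM.1 hnn
  obtain ⟨H, hH, hKH⟩ := exists_isMaxNil_ge _ (BG.fcore_nilpotent M)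
  have h1 : M ≤ normalizer (H : Set G) := fun g hg => by
    rw [← conj_smul_eq_iff_mem_normalizer]
    by_contra hne
    refine hK1 (le_bot_iff.mp ?_)
    rw [← hH.min_TI hS hG g hne]
    refine le_inf hKH ?_
    rw [← conj_smul_eq_iff_mem_normalizer.mpr ((BG.fcore_normal M).2 hg)]
    exact conj_smul_mono g hKH
  have h2 : normalizer (H : Set G) = M := by
    by_contra hne
    exact hH.min_normalizer_ne_top hS (hM.2 _ (lt_of_le_of_ne h1 (Ne.symm hne)))
  rw [hH.min_fittingHallOf_eq hS hG h2.le hM.1]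
  exact ⟨hH, h2⟩

end MinSimple

end CL.CN
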