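import Cfsg.Agent.CN.MinSimple

/-!
# Reduction of the CN-theorem to a partition into Frobenius kernels
-/

namespace CL.CN

open Cfsg Subgroup CL.Transfer
open scoped Pointwise

universe u

/-- A minimal counterexample to the solvability of a quotient- and subgroup-closed class. -/
theorem isSolvable_of_forall_minimalSimple (C : ∀ (G : Type u) [Group G], Prop)
    (hsub : ∀ (G : Type u) [Group G] [Finite G] (H : Subgroup G), C G → C H)
    (hquot : ∀ (G : Type u) [Group G] [Finite G] (N : Subgroup G) [N.Normal],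
      Group.IsSolvable N → C G → C (G ⧸ N))
    (hmin : ∀ (G : Type u) [Group G] [Finite G], C G → ¬ IsMinimalSimple G) (n : ℕ) :
    ∀ (G : Type u) [Group G] [Finite G], Nat.card G = n → C G → Group.IsSolvable G := by
  induction n using Nat.strong_induction_on with
  | _ n ih =>
  intro G _ _ hn hC
  by_contra hns
  have hprop : ∀ H : Subgroup G, H ≠ ⊤ → Group.IsSolvable H := fun H hH =>
    ih _ (hn ▸ card_lt_of_ne_top H hH) H rfl (hsub G H hC)
  have : Nontrivial G := by
    by_contra h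
    rw [not_nontrivial_iff_subsingleton] at h
    exact hns inferInstance
  refine hmin G hC ⟨⟨fun N hN => ?_⟩, fun h => hns (have := isNilpotent_of_isMulCommutative G; inferInstance), hprop⟩
  by_contra hc
  push Not at hc
  have h1 := hprop N hc.2
  have h2 := ih _ (hn ▸ card_quotient_lt N hc.1) (G ⧸ N) rfl (hquot G N h1 hC)
  exact hns (Group.isSolvable_of_ker_le_range N.subtype (QuotientGroup.mk' N) (by simp))

variable {G : Type u} [Group G] [Finite G]

/-- The data of Peterfalvi (7.11) in a minimal simple CN-group of odd order. -/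
theorem exists_partition (hS : IsMinSimpleOddOrder G) (hG : IsCNGroup G) :
    ∃ (ι : Type u) (_ : Fintype ι) (H : ι → Subgroup G), 2 ≤ Fintype.card ι ∧
      (∀ i, IsMaxNil (H i)) ∧
      (∀ i j, i ≠ j → (Nat.card (H i)).Coprime (Nat.card (H j))) ∧
      ∀ g : G, ∃ i, ∃ x : G, x * g * x⁻¹ ∈ H i := by
  classical
  let s : Setoid {H : Subgroup G // IsMaxNil H} :=
    ⟨fun A B => ∃ g : G, B.1 = MulAut.conj g • A.1, fun A => ⟨1, (conj_one_smul _).symm⟩,
      fun {A B} ⟨g, hg⟩ => ⟨g⁻¹, by rw [hg, conj_inv_smul_conj_smul]⟩,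
      fun {A B C} ⟨g, hg⟩ ⟨h, hh⟩ => ⟨h * g, by rw [hh, hg, conj_smul_conj_smul]⟩⟩
  have hcov : ∀ g : G, ∃ i : Quotient s, ∃ x : G, x * g * x⁻¹ ∈ i.out.1 := fun g => by
    obtain ⟨H, h1, h2⟩ := exists_isMaxNil_ge (zpowers g) (isNilpotent_of_isMulCommutative _)
    obtain ⟨x, hx⟩ : s.r ⟨H, h1⟩ (Quotient.mk s ⟨H, h1⟩).out :=
      Quotient.exact (Quotient.out_eq _).symm
    exact ⟨Quotient.mk s ⟨H, h1⟩, x, hx ▸ conj_mem_conj_smul.mpr (h2 (mem_zpowers g))⟩
  refine ⟨Quotient s, Fintype.ofFinite _, fun i => i.out.1, ?_, fun i => i.out.2,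
    fun i j hij => ?_, hcov⟩
  · rw [← @Nat.card_eq_fintype_card _ (Fintype.ofFinite _)]
    by_contra hlt
    have hsub : Subsingleton (Quotient s) := by
      rw [← Finite.card_le_one_iff_subsingleton]; omega
    obtain ⟨i, -⟩ := hcov 1
    refine i.out.2.min_normalizer_ne_top hS (top_le_iff.mp (le_trans ?_ le_normalizer))
    refine (eq_top_of_forall_prime_not_dvd_index fun p hp hd => ?_).ge
    have := Fact.mk hp
    obtain ⟨g, hg⟩ := exists_prime_orderOf_dvd_card' (G := G) p (hd.trans (index_dvd_card _))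
    obtain ⟨j, x, hx⟩ := hcov g
    rw [Subsingleton.elim j i] at hx
    have h1 := i.out.1.orderOf_dvd_natCard hx
    rw [← MulAut.conj_apply, MulEquiv.orderOf_eq, hg] at h1
    exact hp.one_lt.ne' (Nat.eq_one_of_dvd_coprimes (i.out.2.coprime hG) h1 hd)
  · refine (i.out.2.min_conj_or_coprime hS hG j.out.2).resolve_left fun h => hij ?_
    rw [← i.out_eq, ← j.out_eq]
    exact Quotient.sound h

end CL.CN
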