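import Cfsg.Agent.CN.Basic
import Cfsg.Agent.BG.Fcore
import Cfsg.Agent.Solv.Hall
import Cfsg.Agent.Solv.NilpMisc
import Cfsg.Agent.Transfer.Fusion

/-!
# Structure of CN-groups with a normal Sylow subgroup and of solvable CN-groups
-/

namespace CL.CN

open Cfsg Subgroup CL.Transfer
open scoped Pointwise

variable {G : Type*} [Group G] [Finite G]

theorem sylow_le_fittingHall {p : ℕ} [Fact p.Prime] (P : Sylow p G)
    (hP : (P : Subgroup G).Normal) : (P : Subgroup G) ≤ fittingHall G :=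
  BG.le_fittingHall P.isPGroup'.isNilpotent P.card_coprime_index

theorem sylow_ne_bot_of_dvd {p : ℕ} [hp : Fact p.Prime] (P : Sylow p G) (h : p ∣ Nat.card G) :
    (P : Subgroup G) ≠ ⊥ := by
  intro hb
  have := P.not_dvd_index
  rw [hb, index_bot] at this
  exact this h

theorem exists_normal_sylow_of_isNilpotent [Nontrivial G] [Group.IsNilpotent G] :
    ∃ (p : ℕ) (_ : Fact p.Prime) (P : Sylow p G), (P : Subgroup G) ≠ ⊥ ∧
      (P : Subgroup G).Normal := by
  obtain ⟨p, hp, hd⟩ := Nat.exists_prime_and_dvd (Finite.one_lt_card (α := G)).ne'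
  have := Fact.mk hp
  obtain ⟨P⟩ : Nonempty (Sylow p G) := inferInstance
  exact ⟨p, this, P, sylow_ne_bot_of_dvd P hd,
    isNilpotent_iff_sylow_normal.mp inferInstance p this P⟩

/-- An element of order prime to `|M_F|` acts fixed-point-freely on `M_F`. -/
theorem not_commute_fittingHall (hG : IsCNGroup G) {e h : G} (he1 : e ≠ 1)
    (he : (orderOf e).Coprime (Nat.card (fittingHall G))) (hh : h ∈ fittingHall G) (hh1 : h ≠ 1)
    (hc : Commute e h) : False := by
  obtain ⟨q, y, hq, hye, hy⟩ := exists_prime_pow he1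
  have := Fact.mk hq
  have hy1 := ne_one_of_orderOf_eq hq hy
  have hqH : q.Coprime (Nat.card (fittingHall G)) :=
    Nat.Coprime.coprime_dvd_left (hy ▸ orderOf_dvd_of_mem_zpowers hye) he
  have := BG.fittingHall_nilpotent G
  have hyc : fittingHall G ≤ centralizer {y} :=
    le_centralizer hG hh hh1 (commute_of_mem_zpowers hye hc.symm) (hy ▸ hqH.symm)
  have hyp : y ^ q ^ 1 = 1 := by rw [pow_one, ← hy, pow_orderOf_eq_one]
  obtain ⟨Q, hQ⟩ := (isPGroup_zpowers hyp).exists_le_sylow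
  have hn : (Q : Subgroup G).Normal := by
    refine sylow_normal_of_commute hG (y := h) (fun P => ?_) hh1
      (Nat.Coprime.coprime_dvd_left ((fittingHall G).orderOf_dvd_natCard hh) hqH.symm) Q
    obtain ⟨g, hg⟩ := exists_conj_le_sylow P (isPGroup_zpowers hyp)
    refine ⟨g * y * g⁻¹, hg (conj_mem_conj_smul.mpr (mem_zpowers y)), by simpa using hy1, ?_⟩
    have h1 : g⁻¹ * h * g ∈ fittingHall G := by
      simpa using (fittingHall_normal G).conj_mem h hh g⁻¹
    have h2 := mem_centralizer_singleton_iff.mp (hyc h1)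
    change g * y * g⁻¹ * h = h * (g * y * g⁻¹)
    calc g * y * g⁻¹ * h = g * (y * (g⁻¹ * h * g)) * g⁻¹ := by group
      _ = h * (g * y * g⁻¹) := by rw [← h2]; group
  have h3 := (fittingHall G).orderOf_dvd_natCard
    (sylow_le_fittingHall Q hn (hQ (mem_zpowers y)))
  rw [hy] at h3
  exact hq.one_lt.ne' (hqH.eq_one_of_dvd h3)

/-- The Frobenius structure of a non-nilpotent CN-group with `M_F ≠ 1`. -/
theorem exists_complement (hG : IsCNGroup G) (hnn : ¬ Group.IsNilpotent G)
    (h1 : fittingHall G ≠ ⊥) :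
    ∃ E : Subgroup G, IsComplement' (fittingHall G) E ∧ E ≠ ⊥ ∧ Group.IsNilpotent E ∧
      ∀ e ∈ E, e ≠ 1 → fittingHall G ⊓ centralizer {e} = ⊥ := by
  obtain ⟨E, hE⟩ := exists_right_complement'_of_coprime (BG.fittingHall_coprime G)
  have hE1 : E ≠ ⊥ := by
    rintro rfl
    exact hnn (BG.fittingHall_eq_top_iff.mp (isComplement'_bot_right.mp hE))
  have hf : ∀ e ∈ E, e ≠ 1 → fittingHall G ⊓ centralizer {e} = ⊥ := by
    rw [Frob.fpf_iff]
    intro e he h hh hc
    by_contra hne
    push Not at hne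
    refine not_commute_fittingHall hG hne.1 ?_ hh hne.2 hc
    have := BG.fittingHall_coprime G
    rw [hE.symm.index_eq_card] at this
    exact Nat.Coprime.coprime_dvd_left (E.orderOf_dvd_natCard he) this.symm
  exact ⟨E, hE, hE1, isNilpotent_of_center_ne_bot hG
    (Frob.center_ne_bot_of_fpf le_normalizer_of_normal hf h1 hE1), hf⟩

theorem fittingHall_ne_bot_of_normal_sylow {p : ℕ} [Fact p.Prime] (P : Sylow p G)
    (h1 : (P : Subgroup G) ≠ ⊥) (hP : (P : Subgroup G).Normal) : fittingHall G ≠ ⊥ :=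
  fun h => h1 (le_bot_iff.mp (h ▸ sylow_le_fittingHall P hP))

theorem exists_normal_sylow_of_fittingHall_ne_bot (h : fittingHall G ≠ ⊥) :
    ∃ (p : ℕ) (_ : Fact p.Prime) (P : Sylow p G), (P : Subgroup G) ≠ ⊥ ∧
      (P : Subgroup G).Normal ∧ (P : Subgroup G) ≤ fittingHall G := by
  obtain ⟨p, hp, hd⟩ := Nat.exists_prime_and_dvd (fun h1 => h (card_eq_one.mp h1))
  have := Fact.mk hp
  have hi : ¬ p ∣ (fittingHall G).index := fun h2 =>
    hp.one_lt.ne' (Nat.eq_one_of_dvd_coprimes (BG.fittingHall_coprime G) hd h2)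
  obtain ⟨P, hP⟩ := exists_sylow_le_of_not_dvd_index hi
  have := BG.fittingHall_nilpotent G
  refine ⟨p, inferInstance, P, sylow_ne_bot_of_dvd P (hd.trans (card_subgroup_dvd_card _)),
    ⟨fun x hx g => ?_⟩, hP⟩
  obtain ⟨k, hk⟩ := exists_pow_eq_one_of_mem P.isPGroup' hx
  refine mem_sylow_of_isNilpotent P hP ((fittingHall_normal G).conj_mem x (hP hx) g) (k := k) ?_
  rw [conj_pow, hk, mul_one, mul_inv_cancel]

/-- A nilpotent group acting fixed-point-freely is cyclic or cyclic times quaternion. -/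
theorem cyclic_or_quaternion {K E : Subgroup G} (hn : E ≤ normalizer (K : Set G))
    (hf : ∀ e ∈ E, e ≠ 1 → K ⊓ centralizer {e} = ⊥) (hK : K ≠ ⊥) [Group.IsNilpotent E] :
    IsCyclic E ∨ ∃ C Q : Subgroup G, C ⊔ Q = E ∧ (∀ a ∈ C, ∀ b ∈ Q, a * b = b * a) ∧
      IsCyclic C ∧ Odd (Nat.card C) ∧ ∃ n : ℕ, Nonempty (↥Q ≃* QuaternionGroup (2 ^ n)) := by
  set C := (pPrimeCore 2 E).map E.subtype with hC
  set Q := (pCore 2 E).map E.subtype with hQ
  have hCE : C ≤ E := map_subtype_le _
  have hQE : Q ≤ E := map_subtype_le _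
  have hQp : IsPGroup 2 Q := isPGroup_map_subtype_pCore 2 E
  have hCc : (Nat.card C).Coprime 2 := by
    rw [hC, card_map_subtype_eq]; exact pPrimeCore_coprime 2 E
  have hodd : Odd (Nat.card C) := Nat.coprime_two_right.mp hCc
  have hsup : C ⊔ Q = E := by
    rw [hC, hQ, ← Subgroup.map_sup, sup_comm, pCore_sup_pPrimeCore_eq_top 2, ← MonoidHom.range_eq_map,
      range_subtype]
  have : Group.IsNilpotent C := isNilpotent_of_le hCE
  have hCcyc : IsCyclic C := Frob.isCyclic_of_isNilpotent_of_odd_of_fpf (hCE.trans hn)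
    (Frob.fpf_mono hf hCE le_rfl) hK hodd
  obtain ⟨k, hk⟩ := hQp.exists_card_eq
  have hcomm : C ≤ centralizer (Q : Set G) :=
    le_centralizer_of_le_isNilpotent_of_coprime hCE hQE (hk ▸ hCc.pow_right k)
  rcases Frob.isCyclic_or_quaternion_of_le_of_fpf hn hf hK hQp hQE with h | ⟨-, n, -, e⟩
  · left
    have : IsMulCommutative E := hsup ▸ isMulCommutative_sup hcomm
    exact Frob.isCyclic_of_isMulCommutative_of_fpf hn hf hK
  · exact Or.inr ⟨C, Q, hsup, fun a ha b hb => (hcomm ha b hb).symm, hCcyc, hodd, n, e⟩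

/-! ### Three-step groups -/

omit [Finite G] in
theorem isPGroup_of_dvd {p q : ℕ} (h : q ∣ p) (hG : IsPGroup q G) : IsPGroup p G := by
  intro g
  obtain ⟨k, hk⟩ := hG g
  obtain ⟨c, rfl⟩ := h
  exact ⟨k, by rw [mul_pow, pow_mul, hk, one_pow]⟩

theorem dvd_of_isPGroup_of_dvd_card {p q : ℕ} (hG : IsPGroup p G) (hq : q.Prime)
    (h : q ∣ Nat.card G) : q ∣ p := by
  have := Fact.mk hq
  obtain ⟨g, hg⟩ := exists_prime_orderOf_dvd_card' (G := G) q h
  obtain ⟨k, hk⟩ := hG g
  exact hq.dvd_of_dvd_pow (hg ▸ orderOf_dvd_of_pow_eq_one hk)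

/-- A three-step group has no nontrivial normal Sylow subgroup. -/
theorem threeStep_not_normal_sylow {p : ℕ} (h : IsThreeStepGroup p G) {q : ℕ} [hq : Fact q.Prime]
    (Q : Sylow q G) (hQ1 : (Q : Subgroup G) ≠ ⊥) (hQ : (Q : Subgroup G).Normal) : False := by
  obtain ⟨hO, A, hA1, -, -, hAp, hn, hne, ⟨n, hi⟩, hf, -⟩ := h
  have hn0 : n ≠ 0 := by
    rintro rfl
    exact hne (index_eq_one.mp (by simpa using hi))
  by_cases hqp : q ∣ p
  · have h1 : (Q : Subgroup G) ≤ pCore p G ⊔ A :=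
      (le_pCore (isPGroup_of_dvd hqp Q.isPGroup')).trans le_sup_left
    exact Q.not_dvd_index
      ((hqp.trans (hi ▸ dvd_pow_self p hn0)).trans (index_dvd_of_le h1))
  · obtain ⟨k, hk⟩ := Q.isPGroup'.exists_card_eq
    have hqO : ¬ q ∣ Nat.card (pCore p G) := fun h =>
      hqp (dvd_of_isPGroup_of_dvd_card (pCore_isPGroup p G) hq.out h)
    have h1 : (Q : Subgroup G) ≤ pCore p G ⊔ A := Pi.le_of_coprime_index (by
      rw [hk, hi]
      exact Nat.Coprime.pow _ _ ((Nat.Prime.coprime_iff_not_dvd hq.out).mpr hqp))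
    have hk0 : k ≠ 0 := by
      rintro rfl
      exact hQ1 (card_eq_one.mp (by simpa using hk))
    have h2 : q ∣ Nat.card A * Nat.card (pCore p G) := by
      refine dvd_trans ?_ (card_sup_dvd_mul A (pCore p G))
      rw [sup_comm]
      exact (hk ▸ dvd_pow_self q hk0).trans (card_dvd_of_le h1)
    obtain ⟨a, haA, ha⟩ := exists_orderOf_eq_of_dvd hq.out
      ((hq.out.dvd_mul.mp h2).resolve_right hqO)
    have haQ : a ∈ (Q : Subgroup G) := mem_sylow_of_mem_normalizer Q (k := 1)
      (by rw [pow_one, ← ha, pow_orderOf_eq_one]) (le_normalizer_of_normal (mem_top a))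
    have h3 : (Q : Subgroup G) ≤ centralizer (pCore p G : Set G) :=
      le_centralizer_of_normal_of_inf_eq_bot (inf_eq_bot_of_coprime_card (by
        rw [hk]
        exact Nat.Coprime.pow_left _ ((Nat.Prime.coprime_iff_not_dvd hq.out).mpr hqO)))
    refine hO (le_bot_iff.mp ?_)
    rw [← hf a haA (ne_one_of_orderOf_eq hq.out ha)]
    exact fun x hx => ⟨hx, mem_centralizer_singleton_iff.mpr (h3 haQ x hx)⟩

theorem threeStep_pResidual_ne_top {p : ℕ} (h : IsThreeStepGroup p G) : pResidual p G ≠ ⊤ := by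
  obtain ⟨-, A, -, -, -, -, hn, hne, ⟨n, hi⟩, -, -⟩ := h
  exact fun h => hne (top_le_iff.mp (h ▸ pResidual_le_of_index_eq_pow _ hi))

/-- If no Sylow subgroup is normal, `p'`-elements act fixed-point-freely on `O_p(G)`. -/
theorem not_commute_pCore (hG : IsCNGroup G) {p : ℕ} [Fact p.Prime]
    (hns : ∀ P : Sylow p G, ¬ (P : Subgroup G).Normal) {x y : G} (hx : x ∈ pCore p G)
    (hx1 : x ≠ 1) (hy1 : y ≠ 1) (hy : (orderOf y).Coprime p) (hxy : Commute x y) : False := by
  obtain ⟨P⟩ : Nonempty (Sylow p G) := inferInstance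
  exact hns P (sylow_normal_of_commute hG
    (fun Q => ⟨x, pCore_le_sylow Q hx, hx1, hxy⟩) hy1 hy P)

/-- A nontrivial solvable CN-group without nontrivial normal Sylow subgroups is a three-step
group. -/
theorem exists_threeStep [Group.IsSolvable G] [Nontrivial G] (hG : IsCNGroup G)
    (hns : ∀ (q : ℕ) (_ : Fact q.Prime) (Q : Sylow q G), (Q : Subgroup G) ≠ ⊥ →
      ¬ (Q : Subgroup G).Normal) :
    ∃ p : ℕ, p.Prime ∧ IsThreeStepGroup p G := by
  obtain ⟨p, hp, hH⟩ := exists_pCore_ne_bot G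
  have := Fact.mk hp
  refine ⟨p, hp, hH, ?_⟩
  have hns' : ∀ P : Sylow p G, ¬ (P : Subgroup G).Normal := fun P =>
    hns p this P fun h => hH (le_bot_iff.mp (h ▸ pCore_le_sylow P))
  set H := pCore p G with hHdef
  have hHp : IsPGroup p H := pCore_isPGroup p G
  have hfpf : ∀ y : G, y ≠ 1 → (orderOf y).Coprime p → H ⊓ centralizer {y} = ⊥ := by
    intro y hy1 hy
    rw [eq_bot_iff]
    intro x hx
    by_contra hx1
    exact not_commute_pCore hG hns' hx.1 hx1 hy1 hy (mem_centralizer_singleton_iff.mp hx.2)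
  have hCH : ∀ c ∈ centralizer (H : Set G), c ∈ H := by
    have hO : pPrimeCore p G = ⊥ := by
      rw [eq_bot_iff]
      intro y hy
      by_contra hy1
      refine hH (le_bot_iff.mp ?_)
      rw [← hfpf y hy1 (Nat.Coprime.coprime_dvd_left ((pPrimeCore p G).orderOf_dvd_natCard hy)
        (pPrimeCore_coprime p G))]
      exact fun x hx => ⟨hx, mem_centralizer_singleton_iff.mpr
        (pCore_le_centralizer_pPrimeCore hx y hy).symm⟩
    exact centralizer_pCore_le hO
  obtain ⟨K, hK⟩ := Hall.exists_isPiHall {p}ᶜ G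
  have hKp : (Nat.card K).Coprime p :=
    (IsPiNum.compl_singleton_iff_coprime hp).mp (PiHall.card_pi hK)
  have hKi := (PiHall.isPiHall_compl_singleton_iff hp).mp hK
  have hKo : ∀ y ∈ K, (orderOf y).Coprime p := fun y hy =>
    Nat.Coprime.coprime_dvd_left (K.orderOf_dvd_natCard hy) hKp
  have hKf : ∀ y ∈ K, y ≠ 1 → H ⊓ centralizer {y} = ⊥ := fun y hy hy1 => hfpf y hy1 (hKo y hy)
  have hKn : K ≤ normalizer (H : Set G) := le_normalizer_of_normal
  obtain ⟨P⟩ : Nonempty (Sylow p G) := inferInstance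
  have hK1 : K ≠ ⊥ := by
    rintro rfl
    rw [index_bot] at hKi
    have hGp : IsPGroup p G := IsPGroup.of_card hKi
    have hP : (P : Subgroup G) = ⊤ :=
      (P.is_maximal' (hGp.to_subgroup ⊤) le_top).symm
    exact hns' P (hP ▸ inferInstance)
  have hKnil : Group.IsNilpotent K :=
    isNilpotent_of_center_ne_bot hG (Frob.center_ne_bot_of_fpf hKn hKf hH hK1)
  -- the quotient
  set f := QuotientGroup.mk' H with hf
  have hfs : Function.Surjective f := QuotientGroup.mk'_surjective H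
  have hfk : ∀ x, f x = 1 ↔ x ∈ H := fun x => QuotientGroup.eq_one_iff x
  have hGb : IsCNGroup (G ⧸ H) := quotient hG H inferInstance
  set F := fittingSubgroup (G ⧸ H) with hF
  have hFn : F.Normal := fitting_normal _
  have hFnil : Group.IsNilpotent F := fitting_isNilpotent _
  have hFp : (Nat.card F).Coprime p :=
    Nat.Coprime.coprime_dvd_left
      (card_dvd_of_le (fitting_le_pPrimeCore (pCore_quotient_pCore p G))) (pPrimeCore_coprime p _)
  have hCF : centralizer (F : Set (G ⧸ H)) ≤ F := centralizer_fitting_le _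
  have hfF : ∀ u : G ⧸ H, ∀ k : ℕ, u ^ p ^ k = 1 → ∀ a ∈ F, a ≠ 1 → Commute a u → u = 1 := by
    intro u k hu a ha ha1 hau
    have h1 : F ≤ centralizer {u} := le_centralizer hGb ha ha1 hau
      (Nat.Coprime.coprime_dvd_right (orderOf_dvd_of_pow_eq_one hu) (hFp.pow_right k))
    have h2 : u ∈ F := hCF fun b hb => mem_centralizer_singleton_iff.mp (h1 hb)
    exact eq_one_of_pow_eq_one_of_coprime hu
      (Nat.Coprime.coprime_dvd_left (F.orderOf_dvd_natCard h2) hFp)
  have hPH : ¬ (P : Subgroup G) ≤ H := fun h =>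
    hns' P ((le_antisymm h (pCore_le_sylow P)) ▸ inferInstance)
  obtain ⟨x, hxP, hxH⟩ := SetLike.not_le_iff_exists.mp hPH
  obtain ⟨kx, hkx⟩ := exists_pow_eq_one_of_mem P.isPGroup' hxP
  have hFodd : Odd (Nat.card F) := by
    by_contra hev
    obtain ⟨t, htF, ht⟩ := exists_orderOf_eq_of_dvd Nat.prime_two
      (even_iff_two_dvd.mp (Nat.not_odd_iff_even.mp hev))
    have ht1 := ne_one_of_orderOf_eq Nat.prime_two ht
    have htc : (orderOf t).Coprime p :=
      Nat.Coprime.coprime_dvd_left (F.orderOf_dvd_natCard htF) hFp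
    obtain ⟨s, rfl⟩ := hfs t
    obtain ⟨b, -, hb, hfb⟩ := exists_coprime_lift f s htc
    have hb1 : b ≠ 1 := fun h => ht1 (by rw [← hfb, h, map_one])
    have hb2 : b ^ 2 = 1 := by
      have h1 : b ^ 2 ∈ H := (hfk _).mp (by rw [map_pow, hfb, ← ht, pow_orderOf_eq_one])
      obtain ⟨j, hj⟩ := exists_pow_eq_one_of_mem hHp h1
      exact eq_one_of_pow_eq_one_of_coprime hj
        (Nat.Coprime.coprime_dvd_left (orderOf_pow_dvd 2) hb)
    have hinv : ∀ c : G, c ≠ 1 → c ^ 2 = 1 → (orderOf c).Coprime p → ∀ h ∈ H,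
        c * h * c⁻¹ = h⁻¹ := fun c hc1 hc2 hc h hh =>
      Frob.conj_eq_inv_of_fpf (A := zpowers c) le_normalizer_of_normal
        (fun a ha ha1 => hfpf a ha1
          (Nat.Coprime.coprime_dvd_left (orderOf_dvd_of_mem_zpowers ha) hc))
        (mem_zpowers c) (orderOf_eq_prime hc2 hc1) hh
    have hb' : (x * b * x⁻¹) ^ 2 = 1 := by rw [conj_pow, hb2, mul_one, mul_inv_cancel]
    have h1 : b⁻¹ * (x * b * x⁻¹) ∈ H := hCH _ fun h hh => by
      have h2 := hinv b hb1 hb2 hb h hh
      have h3 := hinv (x * b * x⁻¹) (by simpa using hb1) hb'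
        (by rwa [← MulAut.conj_apply, MulEquiv.orderOf_eq]) h hh
      calc h * (b⁻¹ * (x * b * x⁻¹)) = b⁻¹ * (b * h * b⁻¹) * (x * b * x⁻¹) := by group
        _ = b⁻¹ * (x * b * x⁻¹ * h * (x * b * x⁻¹)⁻¹) * (x * b * x⁻¹) := by rw [h2, h3]
        _ = b⁻¹ * (x * b * x⁻¹) * h := by group
    have h4 : Commute (f s) (f x) := by
      have h5 := (hfk _).mpr h1
      simp only [map_mul, map_inv, hfb] at h5
      change f s * f x = f x * f s
      calc f s * f x = f s * ((f s)⁻¹ * (f x * f s * (f x)⁻¹)) * f x := by rw [h5, mul_one]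
        _ = f x * f s := by group
    exact hxH ((hfk x).mp (hfF (f x) kx (by rw [← map_pow, hkx, map_one]) _ htF ht1 h4))
  have hFK : F ≤ K.map f :=
    PiHall.normal_le (PiHall.map_of_surjective hfs hK)
      ((IsPiNum.compl_singleton_iff_coprime hp).mpr hFp)
  set A := K ⊓ F.comap f with hA
  have hinj : ∀ a ∈ K, f a = 1 → a = 1 := fun a ha h => by
    obtain ⟨j, hj⟩ := exists_pow_eq_one_of_mem hHp ((hfk a).mp h)
    exact eq_one_of_pow_eq_one_of_coprime hj (hKo a ha)
  have hAodd : Odd (Nat.card A) := by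
    by_contra hev
    obtain ⟨t, htA, ht⟩ := exists_orderOf_eq_of_dvd Nat.prime_two
      (even_iff_two_dvd.mp (Nat.not_odd_iff_even.mp hev))
    have h1 : orderOf (f t) = 2 := orderOf_eq_prime
      (by rw [← map_pow, ← ht, pow_orderOf_eq_one, map_one])
      (fun h => ne_one_of_orderOf_eq Nat.prime_two ht (hinj t htA.1 h))
    exact (Nat.not_even_iff_odd.mpr hFodd)
      (even_iff_two_dvd.mpr (h1 ▸ F.orderOf_dvd_natCard htA.2))
  have hKA : K ≤ centralizer (A : Set G) := by
    refine le_of_forall_isPGroup_le fun r hr R hR hRK => ?_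
    rw [le_centralizer_iff]
    refine le_of_forall_isPGroup_le fun s hs S hS hSA => ?_
    obtain ⟨i, hi⟩ := hR.exists_card_eq
    obtain ⟨j, hj⟩ := hS.exists_card_eq
    by_cases hrs : r = s
    · subst hrs
      by_cases hr2 : r = 2
      · subst hr2
        have : S = ⊥ := by
          rw [← card_eq_one]
          exact Nat.Coprime.eq_one_of_dvd
            (hj ▸ (Nat.coprime_two_left.mpr hAodd).pow_left j) (card_dvd_of_le hSA)
        rw [this]; exact bot_le
      · have hT : IsCyclic ((pCore r K).map K.subtype) :=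
          Frob.isCyclic_of_odd_of_fpf hKn hKf hH hr2 (isPGroup_map_subtype_pCore r K)
            (map_subtype_le _)
        have hle : ∀ U : Subgroup G, IsPGroup r U → U ≤ K → U ≤ (pCore r K).map K.subtype :=
          fun U hU hUK u hu => ⟨⟨u, hUK hu⟩,
            le_pCore_of_isNilpotent (IsPGroup_subgroupOf hU K) hu, rfl⟩
        intro a ha b hb
        have := (IsCyclic.isMulCommutative (α := (pCore r K).map K.subtype)).is_comm.comm
          ⟨b, hle R hR hRK hb⟩ ⟨a, hle S hS (hSA.trans inf_le_left) ha⟩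
        exact congrArg Subtype.val this
    · refine le_centralizer_of_le_isNilpotent_of_coprime (hSA.trans inf_le_left) hRK ?_
      rw [hi, hj]
      exact Nat.Coprime.pow _ _ ((Nat.coprime_primes hs.out hr.out).mpr (Ne.symm hrs))
  have hKF : K ≤ F.comap f := fun k hk => hCF fun u hu => by
    obtain ⟨a, haK, rfl⟩ := hFK hu
    rw [← map_mul, ← map_mul, hKA hk a ⟨haK, hu⟩]
  have hAK : A = K := inf_eq_left.mpr hKF
  rw [hAK] at hAodd
  have hsup : H ⊔ K = F.comap f := by
    rw [← le_antisymm hFK (map_le_iff_le_comap.mpr hKF) |>.symm, comap_map_eq, hf,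
      QuotientGroup.ker_mk', sup_comm]
  refine ⟨K, hK1, Frob.isCyclic_of_isNilpotent_of_odd_of_fpf hKn hKf hH hAodd, hAodd, hKp,
    hsup ▸ inferInstance, fun htop => ?_, ?_, hKf, fun y hy a ha ha1 hc => ?_⟩
  · have h1 : f x ∈ F := by
      change x ∈ F.comap f
      rw [← hsup, htop]; exact mem_top x
    exact hxH ((hfk x).mp (eq_one_of_pow_eq_one_of_coprime (k := kx)
      (by rw [← map_pow, hkx, map_one])
      (Nat.Coprime.coprime_dvd_left (F.orderOf_dvd_natCard h1) hFp)))
  · obtain ⟨n, -, hn⟩ := (Nat.dvd_prime_pow hp).mp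
      (hKi ▸ index_dvd_of_le (le_sup_right : K ≤ H ⊔ K))
    exact ⟨n, hn⟩
  · have h1 : Commute (f a) (f y) := by
      have h5 := (hfk _).mpr hc
      simp only [map_mul, map_inv] at h5
      change f a * f y = f y * f a
      calc f a * f y = (f y * f a * (f y)⁻¹ * (f a)⁻¹) * f a * f y := by rw [h5, one_mul]
        _ = f y * f a := by group
    obtain ⟨u, v, hu, -, ⟨k, hk⟩, hv, huv⟩ := exists_p_part_mul_p'_part (p := p) (f y)
    have hu1 := hfF u k hk (f a) (hKF ha) (fun h => ha1 (hinj a ha h))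
      (commute_of_mem_zpowers hu h1)
    have hFH : IsPiHall {p}ᶜ F := by
      rw [le_antisymm hFK (map_le_iff_le_comap.mpr hKF)]
      exact PiHall.map_of_surjective hfs hK
    have hvF : v ∈ F := PiHall.mem_of_normal hFH
      ((IsPiNum.compl_singleton_iff_coprime hp).mpr hv)
    refine hy ?_
    rw [hsup, mem_comap, huv, hu1, one_mul]
    exact hvF

end CL.CN
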